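import Cfsg.Agent.Lib.Perm.AbelianKernel.Closure
import Cfsg.Agent.Lib.Perm.Zassenhaus.Frame
import Cfsg.Agent.Lib.Perm.Zassenhaus.Recog

/-!
# Recognition of `PSL(2, q)` and `PGL(2, q)`

`PSL`: inverted two-point stabilisers of odd order `(q - 1) / 2`. `PGL`: commutative two-point stabilisers of
order `q - 1`, `q` odd.
-/

set_option autoImplicit false
set_option linter.unusedSectionVars false
set_option linter.style.haveILetI false

namespace CfsgLib.Perm.AbKernel

open MulAction Cfsg CfsgLib.Perm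

universe u

variable {G : Type u} [Group G] {Ω : Type*} [MulAction G Ω] {a b : Ω}

namespace Data

theorem exists_frame' [Finite G] (D : Data G a b)
    (hHc : ∀ h ∈ stabilizer G a ⊓ stabilizer G b, ∀ k ∈ stabilizer G a ⊓ stabilizer G b, h * k = k * h)
    (hle : Nat.card D.F ≤ 2 * Nat.card ↥(stabilizer G a ⊓ stabilizer G b) + 1) {p f : ℕ} (hp : p.Prime)
    (hexp : ∀ u ∈ D.F, u ^ p = 1) (hF : Nat.card D.F = p ^ f) (hf : 1 < Nat.card D.F) :
    ∃ (z : Ω) (K : Type) (_ : Field K) (_ : Finite K),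
      Nonempty (ZFrame.Frame (G := G) a b z K) ∧ Nat.card K = p ^ f := by
  haveI : Nontrivial D.F := Finite.one_lt_card_iff_nontrivial.1 hf
  obtain ⟨u, hu⟩ := exists_ne (1 : D.F)
  exact ⟨(u : G) • b, ZFrame.exists_frame D.ne (D.smul_b_ne u) (fun e => hu (Subtype.ext (D.eq_one_of_mem u.2 e)))
    D.F D.le (fun h hh v hv => D.normal h (Subgroup.mem_inf.1 hh).1 v hv) D.reg
    (fun h ha hb c hca hcb hc => D.fix h ha hb c hca hcb hc) hHc hle D.comm hp hexp hF⟩

/-- The coordinates of an element interchanging the base points. -/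
theorem exists_coord (D : Data G a b) {z : Ω} {K : Type} [Field K] (Fr : ZFrame.Frame (G := G) a b z K)
    {t : G} (hta : t • a = b) (htb : t • b = a) (htt : t * t = 1) :
    ∃ T : K → K, (∀ x, x ≠ 0 → T x ≠ 0 ∧ t • Fr.φ x = Fr.φ (T x)) ∧ (∀ x, x ≠ 0 → T (T x) = x) := by
  have hT : ∀ x : K, x ≠ 0 → ∃ y : K, y ≠ 0 ∧ t • Fr.φ x = Fr.φ y := by
    intro x hx
    have hne : t • Fr.φ x ≠ a := fun e => hx (Fr.inj (by
      rw [Fr.zero]; exact smul_left_cancel t (e.trans htb.symm)))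
    obtain ⟨y, hy⟩ := Fr.surj _ hne
    refine ⟨y, fun e => ?_, hy.symm⟩
    subst e
    rw [Fr.zero] at hy
    exact Fr.ne_a x (smul_left_cancel t (hy.symm.trans hta.symm))
  choose! T hT0 hT using hT
  refine ⟨T, fun x hx => ⟨hT0 x hx, hT x hx⟩, fun x hx => Fr.inj ?_⟩
  rw [← hT _ (hT0 x hx), ← hT x hx, smul_smul, htt, one_smul]

theorem card_stabilizer_odd [Finite G] (D : Data G a b)
    (hq : Odd (Nat.card D.F)) (hodd : Odd (Nat.card ↥(stabilizer G a ⊓ stabilizer G b))) (c : Ω) :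
    Odd (Nat.card (stabilizer G c)) := by
  obtain ⟨g, rfl⟩ := D.exists_smul_eq_a c
  rw [Nat.card_congr (MulAction.stabilizerEquivStabilizer (g := g) rfl).symm.toEquiv, D.card_stab]
  exact hq.mul hodd

/-- `PSL(2, q)` with `q ≡ 3 (mod 4)`. -/
theorem psl_of_half [Finite G] [FaithfulSMul G Ω] (D : Data G a b) {p f : ℕ} (hp : p.Prime)
    (hexp : ∀ u ∈ D.F, u ^ p = 1) (hF : Nat.card D.F = p ^ f)
    (hodd : Odd (Nat.card ↥(stabilizer G a ⊓ stabilizer G b)))
    (hhalf : Nat.card D.F = 2 * Nat.card ↥(stabilizer G a ⊓ stabilizer G b) + 1)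
    (hsw : ∀ w : G, w • a = b → w • b = a →
      (∀ e ∈ stabilizer G a ⊓ stabilizer G b, w⁻¹ * e * w = e⁻¹) ∧ w * w = 1) :
    ∃ (K : Type) (_ : Field K) (_ : Fintype K), ringChar K ≠ 2 ∧ Fintype.card K = p ^ f ∧
      Nonempty (G ≃* Matrix.ProjectiveSpecialLinearGroup (Fin 2) K) := by
  classical
  obtain ⟨d, hd⟩ : ∃ d, d = Nat.card ↥(stabilizer G a ⊓ stabilizer G b) := ⟨_, rfl⟩
  rw [← hd] at hhalf hodd
  obtain ⟨z, K, hK, hKf, ⟨Fr⟩, hKcard⟩ := D.exists_frame'
    (fun h hh k hk => congrArg Subtype.val (D.pair_comm (hsw D.w D.wa D.wb).1 ⟨h, hh⟩ ⟨k, hk⟩))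
    (by rw [← hd]; omega) hp hexp hF (by have := hodd.pos; omega)
  haveI : Fintype K := Fintype.ofFinite K
  have hqd : Fintype.card K = 2 * d + 1 := by rw [← Nat.card_eq_fintype_card, hKcard, ← hF, hhalf]
  have hchar : ringChar K ≠ 2 := fun h2 => by
    have := FiniteField.even_card_of_char_two h2
    omega
  haveI : Fintype ↥(stabilizer G a ⊓ stabilizer G b) := Fintype.ofFinite _
  have hpowd : ∀ h, (Fr.χ h) ^ d = 1 := fun h => by
    rw [← map_pow, show h ^ d = 1 by rw [hd]; exact pow_card_eq_one', map_one]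
  have hsq : ∀ u : Kˣ, IsSquare (u : K) ↔ ∃ h, Fr.χ h = u := by
    intro u
    have hiff : IsSquare (u : K) ↔ u ^ d = 1 := by
      rw [FiniteField.isSquare_iff hchar u.ne_zero, show Fintype.card K / 2 = d by omega,
        ← Units.val_pow_eq_pow_val, Units.val_eq_one]
    rw [hiff]
    refine ⟨fun hu => ?_, fun ⟨h, hh⟩ => hh ▸ hpowd h⟩
    let S : Finset Kˣ := Finset.univ.filter (fun v => v ^ d = 1)
    have hS : S.card ≤ d := IsCyclic.card_pow_eq_one_le hodd.pos
    have himg : Finset.univ.image Fr.χ = S := Finset.eq_of_subset_of_card_le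
      (fun v hv => by
        obtain ⟨h, -, rfl⟩ := Finset.mem_image.1 hv
        exact Finset.mem_filter.2 ⟨Finset.mem_univ _, hpowd h⟩)
      (by rw [Finset.card_image_of_injective _ Fr.χinj, Finset.card_univ, ← Nat.card_eq_fintype_card, ← hd]; exact hS)
    have : u ∈ Finset.univ.image Fr.χ := himg ▸ Finset.mem_filter.2 ⟨Finset.mem_univ _, hu⟩
    obtain ⟨h, -, hh⟩ := Finset.mem_image.1 this
    exact ⟨h, hh⟩
  have hm1 : ¬ IsSquare (-1 : K) := by
    rw [FiniteField.isSquare_iff hchar (neg_ne_zero.2 one_ne_zero), show Fintype.card K / 2 = d by omega,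
      hodd.neg_one_pow]
    exact Ring.neg_one_ne_one_of_char_ne_two hchar
  have hneg : ∀ x : K, x ≠ 0 → ¬ IsSquare x → IsSquare (-x) := by
    intro x hx hxs
    have h1 := (FiniteField.pow_dichotomy hchar hx).resolve_left ((FiniteField.isSquare_iff hchar hx).not.1 hxs)
    rw [FiniteField.isSquare_iff hchar (neg_ne_zero.2 hx), neg_pow, h1, show Fintype.card K / 2 = d by omega,
      hodd.neg_one_pow, neg_mul_neg, one_mul]
  -- an involution with `T 1 = -1`
  have hnofix : ∀ t : G, t • a = b → t • b = a → ∀ c : Ω, t • c ≠ c := by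
    intro t hta htb c hc
    have ho : orderOf t = 2 := orderOf_eq_prime (by rw [pow_two]; exact (hsw t hta htb).2) fun e =>
      D.ne (by rw [← hta, e, one_smul])
    have hdv := Subgroup.orderOf_dvd_natCard (stabilizer G c) hc
    rw [ho] at hdv
    exact Nat.not_even_iff_odd.2 (D.card_stabilizer_odd (by rw [hhalf]; exact ⟨d, rfl⟩) (hd ▸ hodd) c)
      (even_iff_two_dvd.2 hdv)
  obtain ⟨T₀, hT₀, hT₀T⟩ := D.exists_coord Fr D.wa D.wb (hsw D.w D.wa D.wb).2
  have hTh : ∀ (t : G), t • a = b → t • b = a → ∀ T : K → K,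
      (∀ x, x ≠ 0 → T x ≠ 0 ∧ t • Fr.φ x = Fr.φ (T x)) →
      ∀ (s : K), s ≠ 0 → IsSquare s → ∀ x, x ≠ 0 → T (s * x) = s⁻¹ * T x := by
    intro t hta htb T hT s hs hss x hx
    obtain ⟨h, hh⟩ := (hsq (Units.mk0 s hs)).1 hss
    have hsv : s = (Fr.χ h : K) := by rw [hh]; rfl
    apply Fr.inj
    rw [← (hT _ (mul_ne_zero hs hx)).2, hsv, ← Fr.act, smul_smul]
    have hth : t * (h : G) = ((h⁻¹ : ↥(stabilizer G a ⊓ stabilizer G b)) : G) * t := by
      have h' := (hsw t hta htb).1 _ (inv_mem h.2)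
      rw [inv_inv] at h'
      rw [← h', InvMemClass.coe_inv]
      group
    rw [hth, mul_smul, (hT x hx).2, Fr.act, map_inv, Units.val_inv_eq_inv_val]
  have hc : ¬ IsSquare (T₀ 1) := by
    rintro ⟨r, hr⟩
    have hc0 := (hT₀ 1 one_ne_zero).1
    have hr0 : r ≠ 0 := fun e => hc0 (by rw [hr, e, mul_zero])
    have key : ∀ r : K, r ≠ 0 → T₀ 1 = r * r → ¬ IsSquare r := fun r hr0 hr hrs => by
      refine hnofix D.w D.wa D.wb (Fr.φ r) ?_
      rw [(hT₀ r hr0).2]
      congr 1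
      have := hTh D.w D.wa D.wb T₀ hT₀ r hr0 hrs 1 one_ne_zero
      rw [mul_one, hr] at this
      rw [this, ← mul_assoc, inv_mul_cancel₀ hr0, one_mul]
    exact key (-r) (neg_ne_zero.2 hr0) (by rw [hr]; ring) (hneg r hr0 (key r hr0 hr))
  obtain ⟨s, hs⟩ : ∃ s : K, s = -(T₀ 1)⁻¹ := ⟨_, rfl⟩
  have hs0 : s ≠ 0 := by rw [hs]; exact neg_ne_zero.2 (inv_ne_zero (hT₀ 1 one_ne_zero).1)
  have hss : IsSquare s := by
    rw [hs]
    exact hneg _ (inv_ne_zero (hT₀ 1 one_ne_zero).1) (by rwa [isSquare_inv])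
  obtain ⟨h₀, hh₀⟩ := (hsq (Units.mk0 s hs0)).1 hss
  obtain ⟨t, ht⟩ : ∃ t : G, t = (h₀ : G) * D.w := ⟨_, rfl⟩
  have hta : t • a = b := by rw [ht, mul_smul, D.wa]; exact (Subgroup.mem_inf.1 h₀.2).2
  have htb : t • b = a := by rw [ht, mul_smul, D.wb]; exact (Subgroup.mem_inf.1 h₀.2).1
  obtain ⟨T, hT, hTT⟩ := D.exists_coord Fr hta htb (hsw t hta htb).2
  have hT1 : T 1 = -1 := Fr.inj (by
    rw [← (hT 1 one_ne_zero).2, ht, mul_smul, (hT₀ 1 one_ne_zero).2, Fr.act, hh₀]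
    congr 1
    show s * T₀ 1 = -1
    rw [hs, neg_mul, inv_mul_cancel₀ (hT₀ 1 one_ne_zero).1])
  have hTsq : ∀ x : K, x ≠ 0 → IsSquare x → T x = -x⁻¹ := fun x hx hxs => by
    have := hTh t hta htb T hT x hx hxs 1 one_ne_zero
    rwa [mul_one, hT1, mul_neg_one] at this
  have hTall : ∀ x : K, x ≠ 0 → T x = -x⁻¹ := by
    intro x hx
    by_cases hxs : IsSquare x
    · exact hTsq x hx hxs
    · have hy : IsSquare (-x⁻¹) := hneg _ (inv_ne_zero hx) (by rwa [isSquare_inv])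
      have hy0 : -x⁻¹ ≠ 0 := neg_ne_zero.2 (inv_ne_zero hx)
      have := hTsq _ hy0 hy
      rw [inv_neg, inv_inv, neg_neg] at this
      rw [← hTT _ hy0, this]
  -- recognition
  obtain ⟨E, hEa, hE⟩ := ZRecog.exists_lineEquiv Fr.φ Fr.inj Fr.ne_a Fr.surj
  have htr : ∀ s : K, Dickson.tr s ∈ ZRecog.realGrp (G := G) E := by
    intro s
    obtain ⟨g, hga, hg⟩ := Fr.trans s
    refine ⟨g, fun x => ?_⟩
    obtain rfl | ⟨x, rfl⟩ := Dickson.point_cases x
    · rw [Dickson.tr_ip, hEa, hga]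
    · rw [Dickson.tr_fp, hE, hE, hg]
  have hdi : ∀ u : Kˣ, IsSquare (u : K) → Dickson.di u ∈ ZRecog.realGrp (G := G) E := by
    intro u hu
    obtain ⟨h, hh⟩ := (hsq u).1 hu
    refine ⟨h, fun x => ?_⟩
    obtain rfl | ⟨x, rfl⟩ := Dickson.point_cases x
    · rw [Dickson.di_ip, hEa]; exact (Subgroup.mem_inf.1 h.2).1
    · rw [Dickson.di_fp, hE, hE, Fr.act, hh]
  have hiv : Dickson.iv (-1 : Kˣ) ∈ ZRecog.realGrp (G := G) E := by
    refine ⟨t, fun x => ?_⟩
    obtain rfl | ⟨x, rfl⟩ := Dickson.point_cases x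
    · rw [Dickson.iv_ip, hEa, hE, hta, Fr.zero]
    by_cases hx : x = 0
    · subst hx
      rw [Dickson.iv_fp_zero, hEa, hE, Fr.zero, htb]
    · rw [Dickson.iv_fp _ hx, hE, hE, (hT x hx).2, hTall x hx]
      congr 1
      simp [div_eq_mul_inv]
  have hcard : Nat.card G ≤ Nat.card (Dickson.psl K) := by
    have h2 := Dickson.card_psl (F := K)
    rw [Nat.card_eq_fintype_card (α := K), hqd] at h2
    rw [show Nat.gcd 2 (2 * d + 1 - 1) = 2 by simp] at h2
    rw [D.card_group, hhalf, ← hd]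
    rw [show 2 * d + 1 - 1 = 2 * d by omega] at h2
    nlinarith
  obtain ⟨i⟩ := ZRecog.equiv_psl E htr hdi hiv hcard
  exact ⟨K, hK, inferInstance, hchar, by rw [← Nat.card_eq_fintype_card, hKcard], ⟨i⟩⟩

/-- `PGL(2, q)` for odd `q`. -/
theorem pgl_of_full [Finite G] [FaithfulSMul G Ω] (D : Data G a b) {p f : ℕ} (hp : p.Prime)
    (hexp : ∀ u ∈ D.F, u ^ p = 1) (hF : Nat.card D.F = p ^ f) (hq : Odd (Nat.card D.F))
    (hq1 : 1 < Nat.card D.F)
    (hfull : Nat.card ↥(stabilizer G a ⊓ stabilizer G b) + 1 = Nat.card D.F)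
    (hHc : ∀ h ∈ stabilizer G a ⊓ stabilizer G b, ∀ k ∈ stabilizer G a ⊓ stabilizer G b, h * k = k * h) :
    ∃ (K : Type) (_ : Field K) (_ : Fintype K), Fintype.card K = p ^ f ∧
      Nonempty (G ≃* Matrix.ProjGenLinGroup (Fin 2) K) := by
  classical
  obtain ⟨z, K, hK, hKf, ⟨Fr⟩, hKcard⟩ := D.exists_frame' hHc (by omega) hp hexp hF hq1
  haveI : Fintype K := Fintype.ofFinite K
  haveI : Fintype ↥(stabilizer G a ⊓ stabilizer G b) := Fintype.ofFinite _
  have hqK : Fintype.card K = Nat.card D.F := by rw [← Nat.card_eq_fintype_card, hKcard, hF]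
  have hchar : ringChar K ≠ 2 := fun h2 => by
    have := FiniteField.even_card_of_char_two h2
    obtain ⟨e, he⟩ := hq
    omega
  have hone : (-1 : K) ≠ 1 := Ring.neg_one_ne_one_of_char_ne_two hchar
  have hχ : Function.Surjective Fr.χ := ((Fintype.bijective_iff_injective_and_card _).2 ⟨Fr.χinj, by
    rw [Fintype.card_units, hqK, ← Nat.card_eq_fintype_card]; omega⟩).2
  obtain ⟨z₀, hz₀⟩ := hχ (-1)
  have hz₀1 : z₀ ≠ 1 := fun e => hone (by rw [e, map_one] at hz₀; exact (congrArg Units.val hz₀).symm)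
  have hz₀2 : z₀ * z₀ = 1 := Fr.χinj (by rw [map_mul, hz₀, map_one, neg_mul_neg, one_mul])
  have hz₀u : ∀ g : ↥(stabilizer G a ⊓ stabilizer G b), g * g = 1 → g ≠ 1 → g = z₀ := by
    intro g hg hg1
    refine Fr.χinj (hz₀.symm ▸ ?_)
    have h1 : ((Fr.χ g : K)) * (Fr.χ g : K) = 1 := by
      rw [← Units.val_mul, ← map_mul, hg, map_one]; rfl
    rcases mul_self_eq_one_iff.1 h1 with e | e
    · exact absurd (Fr.χinj ((Units.ext e).trans (map_one _).symm)) hg1
    · exact Units.ext (by rw [e]; rfl)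
  have hφ1 : Fr.φ 1 ≠ Fr.φ (-1) := fun e => hone (Fr.inj e).symm
  obtain ⟨k, hka, hkb⟩ := D.exists_pair hφ1
  obtain ⟨t, ht⟩ : ∃ t : G, t = k * z₀ * k⁻¹ := ⟨_, rfl⟩
  have ht1 : t • Fr.φ 1 = Fr.φ 1 := by
    rw [ht, mul_smul, mul_smul, ← hka, inv_smul_smul, show (z₀ : G) • a = a from (Subgroup.mem_inf.1 z₀.2).1]
  have htm : t • Fr.φ (-1) = Fr.φ (-1) := by
    rw [ht, mul_smul, mul_smul, ← hkb, inv_smul_smul, show (z₀ : G) • b = b from (Subgroup.mem_inf.1 z₀.2).2]
  have htt : t * t = 1 := by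
    rw [ht, show k * (z₀ : G) * k⁻¹ * (k * z₀ * k⁻¹) = k * ((z₀ : G) * z₀) * k⁻¹ by group,
      show (z₀ : G) * z₀ = 1 from congrArg Subtype.val hz₀2]
    group
  have htne : t ≠ 1 := fun e => hz₀1 (Subtype.ext (by
    rw [ht, conj_eq_one_iff] at e; exact e))
  have hcomm : (z₀ : G) * t = t * z₀ := by
    have e1 : (z₀ : G) • Fr.φ 1 = Fr.φ (-1) := by rw [Fr.act, hz₀]; simp
    have e2 : (z₀ : G) • Fr.φ (-1) = Fr.φ 1 := by rw [Fr.act, hz₀]; simp
    have hzi : (z₀ : G)⁻¹ = z₀ := inv_eq_of_mul_eq_one_right (congrArg Subtype.val hz₀2)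
    obtain ⟨g, hg⟩ : ∃ g : G, g = k⁻¹ * ((z₀ : G) * t * (z₀ : G)⁻¹) * k := ⟨_, rfl⟩
    have hga : g • a = a := by
      rw [hg, mul_smul, mul_smul, hka, mul_smul, mul_smul, hzi, e1, htm, e2, inv_smul_eq_iff, hka]
    have hgb : g • b = b := by
      rw [hg, mul_smul, mul_smul, hkb, mul_smul, mul_smul, hzi, e2, ht1, e1, inv_smul_eq_iff, hkb]
    have hm : g ∈ stabilizer G a ⊓ stabilizer G b := Subgroup.mem_inf.2 ⟨hga, hgb⟩
    have := hz₀u ⟨g, hm⟩ (Subtype.ext (by
      show g * g = 1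
      rw [hg, show k⁻¹ * ((z₀ : G) * t * (z₀ : G)⁻¹) * k * (k⁻¹ * ((z₀ : G) * t * (z₀ : G)⁻¹) * k) =
        k⁻¹ * ((z₀ : G) * (t * t) * (z₀ : G)⁻¹) * k by group, htt]
      group)) (fun e => htne (by
        have e' : g = 1 := congrArg Subtype.val e
        rw [hg, show k⁻¹ * ((z₀ : G) * t * (z₀ : G)⁻¹) * k = (k⁻¹ * z₀) * t * (k⁻¹ * z₀)⁻¹ by group,
          conj_eq_one_iff] at e'
        exact e'))
    have h' : g = z₀ := congrArg Subtype.val this
    calc (z₀ : G) * t = k * g * k⁻¹ * z₀ := by rw [hg]; group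
      _ = t * z₀ := by rw [h', ht]
  have hperm : ∀ c : Ω, (z₀ : G) • c = c → c = a ∨ c = b := by
    intro c hc
    by_contra hne
    push Not at hne
    exact hz₀1 (Subtype.ext (D.fix z₀ (Subgroup.mem_inf.1 z₀.2).1 (Subgroup.mem_inf.1 z₀.2).2 c hne.1 hne.2 hc))
  have hab : ∀ c : Ω, (z₀ : G) • c = c → (z₀ : G) • t • c = t • c := fun c hc => by
    rw [smul_smul, hcomm, mul_smul, hc]
  have hφa : Fr.φ 1 ≠ b := fun e => one_ne_zero (Fr.inj (e.trans Fr.zero.symm))
  have hta : t • a = b := by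
    refine (hperm _ (hab a (Subgroup.mem_inf.1 z₀.2).1)).resolve_left fun e => htne ?_
    have e' : t • b = b := (hperm _ (hab b (Subgroup.mem_inf.1 z₀.2).2)).resolve_left fun h =>
      D.ne (smul_left_cancel t (e.trans h.symm))
    exact D.fix t e e' _ (Fr.ne_a 1) hφa ht1
  have htb : t • b = a := by rw [← hta, smul_smul, htt, one_smul]
  obtain ⟨T, hT, hTT⟩ := D.exists_coord Fr hta htb htt
  have hT1 : T 1 = 1 := Fr.inj (by rw [← (hT 1 one_ne_zero).2, ht1])
  have hTm : T (-1) = -1 := Fr.inj (by rw [← (hT _ (neg_ne_zero.2 one_ne_zero)).2, htm])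
  have hTmul : ∀ x y : K, x ≠ 0 → y ≠ 0 → T (x * y) = T x * T y := by
    have hgen : ∀ x : K, x ≠ 0 → ∃ c : K, ∀ y : K, y ≠ 0 → T (x * y) = c * T y := by
      intro x hx
      obtain ⟨h, hh⟩ := hχ (Units.mk0 x hx)
      have hm : t * (h : G) * t⁻¹ ∈ stabilizer G a ⊓ stabilizer G b := by
        refine Subgroup.mem_inf.2 ⟨?_, ?_⟩ <;> rw [mem_stabilizer_iff, mul_smul, mul_smul]
        · rw [inv_smul_eq_iff.2 htb.symm, show (h : G) • b = b from (Subgroup.mem_inf.1 h.2).2, htb]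
        · rw [inv_smul_eq_iff.2 hta.symm, show (h : G) • a = a from (Subgroup.mem_inf.1 h.2).1, hta]
      refine ⟨(Fr.χ ⟨_, hm⟩ : K), fun y hy => Fr.inj ?_⟩
      rw [← (hT _ (mul_ne_zero hx hy)).2, show x = (Fr.χ h : K) by rw [hh]; rfl, ← Fr.act, ← Fr.act,
        ← (hT y hy).2, smul_smul, smul_smul]
      congr 1
      show t * (h : G) = t * (h : G) * t⁻¹ * t
      group
    intro x y hx hy
    obtain ⟨c, hc⟩ := hgen x hx
    have := hc 1 one_ne_zero
    rw [mul_one, hT1, mul_one] at this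
    rw [hc y hy, this]
  have hTodd : ∀ x, x ≠ 0 → T (-x) = -T x := fun x hx => by
    rw [← neg_one_mul, hTmul _ _ (neg_ne_zero.2 one_ne_zero) hx, hTm, neg_one_mul]
  have hfix : ∀ x : K, x ≠ 0 → T x = x → x = 1 ∨ x = -1 := by
    intro x hx e
    by_contra hne
    push Not at hne
    exact htne (D.three_fix t (Fr.φ 1) (Fr.φ (-1)) (Fr.φ x) hφ1 (fun h => hne.2 (Fr.inj h).symm)
      (fun h => hne.1 (Fr.inj h).symm) ht1 htm (by rw [(hT x hx).2, e]))
  have hTsq : ∀ s : K, s ≠ 0 → IsSquare s → T s = s⁻¹ := by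
    rintro s hs ⟨r, rfl⟩
    have hr : r ≠ 0 := fun e => hs (by rw [e, mul_zero])
    have hTr := (hT r hr).1
    have h := hfix (r * T r) (mul_ne_zero hr hTr) (by rw [hTmul _ _ hr hTr, hTT r hr, mul_comm])
    have h2 : (r * T r) * (r * T r) = 1 := by rcases h with e | e <;> rw [e] <;> ring
    rw [hTmul _ _ hr hr]
    exact eq_inv_of_mul_eq_one_left (by linear_combination h2)
  obtain ⟨ν, hν⟩ := FiniteField.exists_nonsquare hchar
  have hν0 : ν ≠ 0 := fun h => hν (h ▸ IsSquare.zero)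
  obtain ⟨c, hc⟩ : ∃ c, c = ν * T ν := ⟨_, rfl⟩
  have hmulns : ∀ x : K, x ≠ 0 → ¬ IsSquare x → IsSquare (x / ν) := by
    intro x hx hxs
    have e1 := (FiniteField.pow_dichotomy hchar hx).resolve_left ((FiniteField.isSquare_iff hchar hx).not.1 hxs)
    have e2 := (FiniteField.pow_dichotomy hchar hν0).resolve_left ((FiniteField.isSquare_iff hchar hν0).not.1 hν)
    rw [FiniteField.isSquare_iff hchar (div_ne_zero hx hν0), div_pow, e1, e2, div_self (neg_ne_zero.2 one_ne_zero)]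
  have hTns : ∀ x : K, x ≠ 0 → ¬ IsSquare x → T x = c / x := by
    intro x hx hxs
    have h := hTmul (x / ν) ν (div_ne_zero hx hν0) hν0
    rw [div_mul_cancel₀ x hν0, hTsq _ (div_ne_zero hx hν0) (hmulns x hx hxs), inv_div] at h
    rw [h, hc]
    field_simp
  -- the structure equation
  obtain ⟨τ, hτa, hτ⟩ := Fr.trans 1
  obtain ⟨τ', hτ'a, hτ'⟩ := Fr.trans (-1)
  have htt' : ∀ w : Ω, t • t • w = w := fun w => by rw [smul_smul, htt, one_smul]
  have hTx : ∀ x : K, x ≠ 0 → t • Fr.φ x = Fr.φ (T x) := fun x hx => (hT x hx).2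
  have hkey : ∀ x : K, x ≠ 0 → 1 + x ≠ 0 → T (T x + 1) = 1 - T (1 + x) := by
    set g : G := t * τ * t with hg
    have hτb : τ • b = Fr.φ 1 := (congrArg (τ • ·) Fr.zero.symm).trans (by rw [hτ, zero_add])
    have hτ'b : τ' • b = Fr.φ (-1) := (congrArg (τ' • ·) Fr.zero.symm).trans (by rw [hτ', zero_add])
    have hga : g • a = Fr.φ 1 := by
      rw [hg, mul_smul, mul_smul, hta, hτb, hTx 1 one_ne_zero, hT1]
    have hgb : g • b = b := by rw [hg, mul_smul, mul_smul, htb, hτa, hta]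
    have h1a : (t * τ' * g) • a = a := by
      rw [mul_smul, mul_smul, hga, hτ', add_neg_cancel, Fr.zero, htb]
    have h1b : (t * τ' * g) • b = Fr.φ (-1) := by
      rw [mul_smul, mul_smul, hgb, hτ'b, hTx _ (neg_ne_zero.2 one_ne_zero), hTm]
    have hk : τ * (t * τ' * g) ∈ stabilizer G a ⊓ stabilizer G b := by
      refine Subgroup.mem_inf.2 ⟨?_, ?_⟩ <;> show _ • _ = _
      · rw [mul_smul, h1a, hτa]
      · rw [mul_smul, h1b, hτ, neg_add_cancel, Fr.zero]
    obtain ⟨s, hs⟩ : ∃ s : K, s = (Fr.χ ⟨_, hk⟩ : K) := ⟨_, rfl⟩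
    have haff : ∀ x : K, τ • (t • τ' • (g • Fr.φ x)) = Fr.φ (s * x) := fun x => by
      rw [hs, ← Fr.act]; simp only [mul_smul]
    have hinv' : ∀ x : K, t • τ' • (g • Fr.φ x) = Fr.φ (s * x - 1) := fun x => by
      obtain ⟨y, hy⟩ : ∃ y, Fr.φ y = t • τ' • (g • Fr.φ x) := Fr.surj _ (fun e => Fr.ne_a (s * x) (by
        rw [← haff x, e, hτa]))
      have h := haff x
      rw [← hy, hτ] at h
      rw [← hy]
      congr 1
      rw [← Fr.inj h, add_sub_cancel_right]
    have hs1 : s = -1 := by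
      have h := hinv' (-1)
      rw [hg, mul_smul, mul_smul, hTx _ (neg_ne_zero.2 one_ne_zero), hTm, hτ,
        neg_add_cancel, Fr.zero, htb, hτ'a, hta] at h
      have := Fr.inj (Fr.zero.trans h)
      linear_combination this
    intro x hx hx1
    have hne : T x + 1 ≠ 0 := by
      intro h0
      have h : T x = -1 := eq_neg_of_add_eq_zero_left h0
      have h' := hTT x hx
      rw [h, hTm] at h'
      exact hx1 (by rw [← h']; ring)
    have h := hinv' x
    rw [hg, mul_smul, mul_smul, hTx x hx, hτ, hTx _ hne, hτ', hs1] at h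
    have hne2 : -1 * x - 1 ≠ 0 := fun e => hx1 (by linear_combination -e)
    have h' := congrArg (t • ·) h
    rw [htt', hTx _ hne2] at h'
    have h'' := Fr.inj h'
    rw [show -1 * x - 1 = -(1 + x) by ring, hTodd _ hx1] at h''
    linear_combination h''
  have hc1 : c = 1 := by
    by_contra hc1
    have hclosed : ∀ x : K, IsSquare x → IsSquare (x + 1) := by
      intro x hxs
      by_cases hx : x = 0
      · subst hx; rw [zero_add]; exact IsSquare.one
      by_cases hx1 : 1 + x = 0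
      · rw [add_comm, hx1]; exact IsSquare.zero
      by_contra hns
      have hTx := hTsq x hx hxs
      have hns1 : ¬ IsSquare (1 + x) := by rwa [add_comm]
      have hk := hkey x hx hx1
      have hval : T x + 1 = (1 + x) / x := by rw [hTx]; field_simp
      have hns2 : ¬ IsSquare ((1 + x) / x) := fun h => hns1 (by
        have := h.mul hxs
        rwa [div_mul_cancel₀ _ hx] at this)
      rw [hval, hTns _ (div_ne_zero hx1 hx) hns2, hTns _ hx1 hns1] at hk
      field_simp at hk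
      exact hc1 (mul_right_cancel₀ hx1 (by linear_combination hk))
    let Q : Finset K := Finset.univ.filter (fun x : K => IsSquare x)
    have hQ : Q.image (· + 1) = Q := Finset.eq_of_subset_of_card_le
      (fun y hy => by
        obtain ⟨x, hx, rfl⟩ := Finset.mem_image.1 hy
        exact Finset.mem_filter.2 ⟨Finset.mem_univ _, hclosed x (Finset.mem_filter.1 hx).2⟩)
      (by rw [Finset.card_image_of_injective _ (add_left_injective (1 : K))])
    have hsum : ∑ x ∈ Q, (x + 1) = ∑ x ∈ Q, x := by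
      conv_rhs => rw [← hQ]
      rw [Finset.sum_image fun x _ y _ h => add_left_injective 1 h]
    rw [Finset.sum_add_distrib, add_eq_left, Finset.sum_const, nsmul_one] at hsum
    have hQcard : 2 * Q.card = Fintype.card K + 1 := by
      have hns : (Q.erase 0).image (ν * ·) = Finset.univ.filter (fun x : K => ¬ IsSquare x) := by
        ext y
        simp only [Q, Finset.mem_image, Finset.mem_erase, Finset.mem_filter, Finset.mem_univ, true_and]
        constructor
        · rintro ⟨x, ⟨hx0, hxs⟩, rfl⟩ hns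
          apply hν
          have := hns.mul (isSquare_inv.2 hxs)
          rwa [mul_assoc, mul_inv_cancel₀ hx0, mul_one] at this
        · intro hy
          have hy0 : y ≠ 0 := fun e => hy (e ▸ IsSquare.zero)
          exact ⟨y / ν, ⟨div_ne_zero hy0 hν0, hmulns y hy0 hy⟩, mul_div_cancel₀ y hν0⟩
      have h1 := congrArg Finset.card hns
      rw [Finset.card_image_of_injective _ (mul_right_injective₀ hν0),
        Finset.card_erase_of_mem (Finset.mem_filter.2 ⟨Finset.mem_univ _, IsSquare.zero⟩)] at h1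
      change Q.card - 1 = _ at h1
      have h2 : Q.card + (Finset.univ.filter (fun x : K => ¬ IsSquare x)).card = Fintype.card K := by
        rw [← Finset.card_univ]
        exact Finset.card_filter_add_card_filter_not _
      have h3 : 0 < Q.card := Finset.card_pos.2 ⟨0, Finset.mem_filter.2 ⟨Finset.mem_univ _, IsSquare.zero⟩⟩
      omega
    have hK0 : ((Fintype.card K : ℕ) : K) = 0 := FiniteField.cast_card_eq_zero K
    have h4 := congrArg (fun n : ℕ => (n : K)) hQcard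
    push_cast at h4
    rw [hK0, hsum, mul_zero, zero_add] at h4
    exact zero_ne_one h4
  have hTall : ∀ x : K, x ≠ 0 → T x = x⁻¹ := fun x hx => by
    by_cases hxs : IsSquare x
    · exact hTsq x hx hxs
    · rw [hTns x hx hxs, hc1, one_div]
  -- recognition
  obtain ⟨E, hEa, hE⟩ := ZRecog.exists_lineEquiv Fr.φ Fr.inj Fr.ne_a Fr.surj
  have htr : ∀ s : K, Dickson.tr s ∈ ZRecog.realGrp (G := G) E := by
    intro s
    obtain ⟨g, hga, hg⟩ := Fr.trans s
    refine ⟨g, fun x => ?_⟩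
    obtain rfl | ⟨x, rfl⟩ := Dickson.point_cases x
    · rw [Dickson.tr_ip, hEa, hga]
    · rw [Dickson.tr_fp, hE, hE, hg]
  have hdi : ∀ u : Kˣ, Dickson.di u ∈ ZRecog.realGrp (G := G) E := by
    intro u
    obtain ⟨h, hh⟩ := hχ u
    refine ⟨h, fun x => ?_⟩
    obtain rfl | ⟨x, rfl⟩ := Dickson.point_cases x
    · rw [Dickson.di_ip, hEa]; exact (Subgroup.mem_inf.1 h.2).1
    · rw [Dickson.di_fp, hE, hE, Fr.act, hh]
  have hiv : Dickson.iv (1 : Kˣ) ∈ ZRecog.realGrp (G := G) E := by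
    refine ⟨t, fun x => ?_⟩
    obtain rfl | ⟨x, rfl⟩ := Dickson.point_cases x
    · rw [Dickson.iv_ip, hEa, hE, hta, Fr.zero]
    by_cases hx : x = 0
    · subst hx
      rw [Dickson.iv_fp_zero, hEa, hE, Fr.zero, htb]
    · rw [Dickson.iv_fp _ hx, hE, hE, (hT x hx).2, hTall x hx, Units.val_one, one_div]
  have hcard : Nat.card G ≤ Nat.card (Dickson.G2 K) := by
    rw [Dickson.card_G2, hKcard, ← hF, D.card_group, ← hfull, Nat.add_sub_cancel]
    exact le_of_eq (by ring)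
  obtain ⟨i⟩ := ZRecog.equiv_pgl E htr hdi hiv hcard
  exact ⟨K, hK, inferInstance, by rw [← Nat.card_eq_fintype_card, hKcard], ⟨i⟩⟩

end Data

end CfsgLib.Perm.AbKernel
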