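import Cfsg.Agent.Lib.Perm.AbelianKernel.Closure

/-!
# Full two-point stabilisers
-/

set_option autoImplicit false
set_option linter.unusedSectionVars false
set_option linter.style.haveILetI false

namespace CfsgLib.Perm.AbKernel

open MulAction Cfsg

variable {G : Type*} [Group G] {Ω : Type*} [MulAction G Ω] {a b : Ω}

namespace Data

theorem card_space [Fintype Ω] (D : Data G a b) : Nat.card D.F + 1 = Fintype.card Ω := by
  classical
  have e : D.F ≃ {c : Ω // c ≠ a} := Equiv.ofBijective (fun u => ⟨(u : G) • b, D.smul_b_ne u⟩)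
    ⟨fun u v h => D.eq_of_smul_b (congrArg Subtype.val h),
     fun c => ⟨_, Subtype.ext (D.reg b c D.ne.symm c.2).exists.choose_spec⟩⟩
  have : 0 < Fintype.card Ω := Fintype.card_pos_iff.2 ⟨a⟩
  rw [Nat.card_congr e, Nat.card_eq_fintype_card, Fintype.card_subtype_compl, Fintype.card_subtype_eq]
  omega

theorem dvd_sub_one [Finite G] (D : Data G a b) :
    Nat.card ↥(stabilizer G a ⊓ stabilizer G b) ∣ Nat.card D.F - 1 :=
  (Nat.modEq_iff_dvd' Nat.card_pos).1 (Nat.ModEq.symm (D.isFpfOn.card_mod D.pair_le_normalizer))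

/-- At most two orbits: the order of the two-point stabiliser is `q - 1` or `(q - 1) / 2`. -/
theorem full_or_half [Finite G] (D : Data G a b) (h1 : 1 < Nat.card D.F)
    (hle : Nat.card D.F ≤ 2 * Nat.card ↥(stabilizer G a ⊓ stabilizer G b) + 1) :
    Nat.card ↥(stabilizer G a ⊓ stabilizer G b) + 1 = Nat.card D.F ∨
      Nat.card D.F = 2 * Nat.card ↥(stabilizer G a ⊓ stabilizer G b) + 1 := by
  obtain ⟨m, hm⟩ := D.dvd_sub_one
  rcases (by omega : m = 0 ∨ m = 1 ∨ m = 2 ∨ 3 ≤ m) with rfl | rfl | rfl | h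
  · rw [mul_zero] at hm; omega
  · left; omega
  · right; omega
  · have := Nat.mul_le_mul_left (Nat.card ↥(stabilizer G a ⊓ stabilizer G b)) h
    omega

/-- A full two-point stabiliser gives sharp triple transitivity. -/
theorem sharp_three [Finite G] [Fintype Ω] (D : Data G a b) (h1 : 1 < Nat.card D.F)
    (hfull : Nat.card ↥(stabilizer G a ⊓ stabilizer G b) + 1 = Nat.card D.F) :
    IsMultiplyPretransitive G Ω 3 ∧ ∀ t : Fin 3 ↪ Ω, stabilizer G t = ⊥ := by
  classical
  have hs : ∀ t : Fin 3 ↪ Ω, stabilizer G t = ⊥ := fun t => eq_bot_iff.2 fun g hg => Subgroup.mem_bot.2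
    (D.three_fix g (t 0) (t 1) (t 2) (fun h => absurd (t.injective h) (by decide))
      (fun h => absurd (t.injective h) (by decide)) (fun h => absurd (t.injective h) (by decide))
      (congrArg (fun f : Fin 3 ↪ Ω => f 0) hg) (congrArg (fun f : Fin 3 ↪ Ω => f 1) hg)
      (congrArg (fun f : Fin 3 ↪ Ω => f 2) hg))
  refine ⟨?_, hs⟩
  haveI : Nontrivial D.F := Finite.one_lt_card_iff_nontrivial.1 h1
  obtain ⟨u, hu⟩ := exists_ne (1 : D.F)
  have hcb : (u : G) • b ≠ b := fun e => hu (Subtype.ext (D.eq_one_of_mem u.2 e))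
  let f : ↥(stabilizer G a ⊓ stabilizer G b) → {c : Ω // c ≠ a ∧ c ≠ b} := fun e =>
    ⟨(e : G) • (u : G) • b, D.smul_ne (Subgroup.mem_inf.1 e.2).1 (D.smul_b_ne u), fun h => hcb
      (smul_left_cancel (e : G) (h.trans (mem_stabilizer_iff.1 (Subgroup.mem_inf.1 e.2).2).symm))⟩
  have hb : Function.Bijective f := by
    refine (Nat.bijective_iff_injective_and_card f).2 ⟨fun e e' h => ?_, ?_⟩
    · have h' : (e : G) • (u : G) • b = (e' : G) • (u : G) • b := congrArg Subtype.val h
      have hm := mul_mem (inv_mem e'.2) e.2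
      have := D.fix _ (Subgroup.mem_inf.1 hm).1 (Subgroup.mem_inf.1 hm).2 _ (D.smul_b_ne u) hcb
        (by rw [mul_smul, h', inv_smul_smul])
      exact Subtype.ext (inv_mul_eq_one.1 this).symm
    · have h3 := D.card_space
      have e : Finset.univ.filter (fun c : Ω => c ≠ a ∧ c ≠ b) = (Finset.univ.erase a).erase b := by
        ext c; simp [and_comm]
      rw [Nat.card_eq_fintype_card (α := {c : Ω // c ≠ a ∧ c ≠ b}), Fintype.card_subtype, e,
        Finset.card_erase_of_mem (Finset.mem_erase.2 ⟨D.ne.symm, Finset.mem_univ _⟩),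
        Finset.card_erase_of_mem (Finset.mem_univ _), Finset.card_univ]
      omega
  have key : ∀ x : Fin 3 ↪ Ω, ∃ g : G, g • a = x 0 ∧ g • b = x 1 ∧ g • (u : G) • b = x 2 := by
    intro x
    obtain ⟨k, hka, hkb⟩ := D.exists_pair (fun h => absurd (x.injective h) (by decide) : x 0 ≠ x 1)
    obtain ⟨e, he⟩ := hb.2 ⟨k⁻¹ • x 2,
      fun h => absurd (x.injective ((inv_smul_eq_iff.1 h).trans hka)) (by decide),
      fun h => absurd (x.injective ((inv_smul_eq_iff.1 h).trans hkb)) (by decide)⟩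
    refine ⟨k * e, ?_, ?_, ?_⟩
    · rw [mul_smul, show (e : G) • a = a from (Subgroup.mem_inf.1 e.2).1, hka]
    · rw [mul_smul, show (e : G) • b = b from (Subgroup.mem_inf.1 e.2).2, hkb]
    · have he' : (e : G) • (u : G) • b = k⁻¹ • x 2 := congrArg Subtype.val he
      rw [mul_smul, he', smul_inv_smul]
  constructor
  intro x y
  obtain ⟨g, g0, g1, g2⟩ := key x
  obtain ⟨k, k0, k1, k2⟩ := key y
  refine ⟨k * g⁻¹, ?_⟩
  ext i
  fin_cases i
  · show (k * g⁻¹) • x 0 = y 0
    rw [mul_smul, ← g0, inv_smul_smul, k0]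
  · show (k * g⁻¹) • x 1 = y 1
    rw [mul_smul, ← g1, inv_smul_smul, k1]
  · show (k * g⁻¹) • x 2 = y 2
    rw [mul_smul, ← g2, inv_smul_smul, k2]

end Data

end CfsgLib.Perm.AbKernel
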