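import Cfsg.Agent.Lib.Perm.AbelianKernel.Three
import Cfsg.Agent.Lib.Perm.Zassenhaus.OddDegree

/-!
# Sharply triply transitive groups of degree `p ^ f + 1`, `p` and `f` odd: two-point stabilisers are abelian
-/

set_option autoImplicit false
set_option linter.unusedSectionVars false
set_option linter.style.haveILetI false

namespace CfsgLib.Perm.AbKernel

open MulAction Cfsg

/-- The kernel structure of a sharply triply transitive group. -/
theorem exists_data_sharp {α : Type*} [Fintype α] [DecidableEq α] {G : Subgroup (Equiv.Perm α)}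
    (h3 : IsMultiplyPretransitive G α 3) (hsharp : ∀ x : Fin 3 ↪ α, stabilizer G x = ⊥)
    (hn : 3 ≤ Fintype.card α) :
    ∃ (a b : α) (D : Data G a b) (p : ℕ), p.Prime ∧ (∀ u ∈ D.F, u ^ p = 1) ∧
      Nat.card ↥(stabilizer G a ⊓ stabilizer G b) + 1 = Nat.card D.F := by
  classical
  haveI := h3
  haveI h2 : IsMultiplyPretransitive G α 2 := MulAction.isMultiplyPretransitive_of_le (n := 3) (by norm_num) (by
    rw [Nat.card_eq_fintype_card]; omega)
  obtain ⟨a, b, hab⟩ := Fintype.exists_pair_of_one_lt_card (show 1 < Fintype.card α by omega)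
  obtain ⟨p, F, hp, hFle, hnorm, hreg, hFc, hexp, hstab⟩ := CfsgLib.Perm.ZOdd.point_kernel h3 hsharp hn a
  obtain ⟨w, hwa, hwb⟩ := MulAction.is_two_pretransitive_iff.1 h2 hab hab.symm
  let D : Data G a b :=
    { F := F, w := w, ne := hab, le := hFle, normal := hnorm, comm := hFc, reg := hreg
      fix := fun g ha hb c hca hcb hc =>
        CfsgLib.Perm.ZOdd.eq_one_of_three hsharp hab (Ne.symm hca) (Ne.symm hcb) ha hb hc
      wa := hwa, wb := hwb }
  refine ⟨a, b, D, p, hp, hexp, ?_⟩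
  have h := D.card_stab
  have hc := D.card_space
  rw [hstab] at h
  have h' : Fintype.card α - 1 = Nat.card D.F := by omega
  rw [h'] at h
  have := Nat.eq_of_mul_eq_mul_left Nat.card_pos h
  omega

variable {G : Type*} [Group G] {Ω : Type*} [MulAction G Ω] {a b : Ω}

namespace Data

/-- Over an elementary abelian group of odd rank no element is inverted by another. -/
theorem no_inverted (D : Data G a b) [Finite G] {p f : ℕ} (hp : p.Prime) (hp2 : p ≠ 2)
    (hexp : ∀ u ∈ D.F, u ^ p = 1) (hF : Nat.card D.F = p ^ f) (hf : Odd f) {g x : G}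
    (hg : g ∈ stabilizer G a ⊓ stabilizer G b) (hx : x ∈ stabilizer G a ⊓ stabilizer G b)
    (h : g * x * g⁻¹ = x⁻¹) : x * x = 1 := by
  classical
  haveI := Fact.mk hp
  letI : CommGroup D.F := { (inferInstance : Group D.F) with
    mul_comm := fun u u' => Subtype.ext (D.comm _ u.2 _ u'.2) }
  haveI hmod : Module (ZMod p) (Additive D.F) := AddCommGroup.zmodModule (n := p) fun v => by
    obtain ⟨u, rfl⟩ := Additive.ofMul.surjective v
    rw [← ofMul_pow, show u ^ p = 1 from Subtype.ext (by push_cast; exact hexp u u.2), ofMul_one]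
  let cj : ↥(stabilizer G a ⊓ stabilizer G b) → D.F →* D.F := fun e =>
    MonoidHom.mk' (fun u => ⟨(e : G) * u * (e : G)⁻¹, D.normal _ (Subgroup.mem_inf.1 e.2).1 _ u.2⟩)
      fun u v => Subtype.ext (by simp [mul_assoc])
  let L : ↥(stabilizer G a ⊓ stabilizer G b) → (Additive D.F →ₗ[ZMod p] Additive D.F) := fun e =>
    (MonoidHom.toAdditive (cj e)).toZModLinearMap p
  have hL : ∀ (e : ↥(stabilizer G a ⊓ stabilizer G b)) (u : D.F), L e (Additive.ofMul u) = Additive.ofMul (cj e u) := fun _ _ => rfl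
  have hmul : ∀ e e', L e * L e' = L (e * e') := fun e e' => LinearMap.ext fun v => by
    obtain ⟨u, rfl⟩ := Additive.ofMul.surjective v
    rw [Module.End.mul_apply, hL, hL, hL]
    congr 1
    refine Subtype.ext ?_
    show (e : G) * ((e' : G) * u * (e' : G)⁻¹) * (e : G)⁻¹ = ((e : G) * e') * u * ((e : G) * e')⁻¹
    group
  have hone : L 1 = 1 := LinearMap.ext fun v => by
    obtain ⟨u, rfl⟩ := Additive.ofMul.surjective v
    rw [hL]
    exact congrArg Additive.ofMul (Subtype.ext (by simp [cj]))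
  obtain ⟨g', hg'⟩ : ∃ g' : ↥(stabilizer G a ⊓ stabilizer G b), (g' : G) = g := ⟨⟨g, hg⟩, rfl⟩
  obtain ⟨x', hx'⟩ : ∃ x' : ↥(stabilizer G a ⊓ stabilizer G b), (x' : G) = x := ⟨⟨x, hx⟩, rfl⟩
  have hgx : g' * x' = x'⁻¹ * g' := Subtype.ext (by
    push_cast
    rw [hg', hx', ← h]
    group)
  have hgx' : g' * x'⁻¹ = x' * g' := by
    have := congrArg (fun y => x' * y * x'⁻¹) hgx
    simpa [mul_assoc] using this.symm
  obtain ⟨Y, hY⟩ : ∃ Y, Y = L x' - L x'⁻¹ := ⟨_, rfl⟩
  have hanti : L g' * Y = ((-1 : ZMod p) • Y) * L g' := by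
    rw [hY, show (-1 : ZMod p) • (L x' - L x'⁻¹) = L x'⁻¹ - L x' from LinearMap.ext fun v => by simp, mul_sub, sub_mul, hmul, hmul, hmul, hmul, hgx, hgx']
  have hrank : Module.finrank (ZMod p) (Additive D.F) = f := by
    have h1 := Module.natCard_eq_pow_finrank (K := ZMod p) (V := Additive D.F)
    rw [Nat.card_zmod, show Nat.card (Additive D.F) = Nat.card D.F from Nat.card_congr Additive.toMul, hF] at h1
    exact (Nat.pow_right_injective hp.two_le h1).symm
  have hdet : LinearMap.det (L g') ≠ 0 := by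
    intro h0
    have h1 := congrArg LinearMap.det (hmul g' g'⁻¹)
    rw [map_mul, h0, zero_mul, mul_inv_cancel, hone, map_one] at h1
    exact zero_ne_one h1
  have hY0 : LinearMap.det Y = 0 := by
    have h1 := congrArg LinearMap.det hanti
    rw [map_mul, map_mul, LinearMap.det_smul, hrank, hf.neg_one_pow, mul_comm, neg_one_mul] at h1
    have h2 : (2 : ZMod p) * (LinearMap.det Y * LinearMap.det (L g')) = 0 := by linear_combination h1
    have h20 : (2 : ZMod p) ≠ 0 := by
      intro e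
      have h3 : ((2 : ℕ) : ZMod p) = 0 := by exact_mod_cast e
      rw [ZMod.natCast_eq_zero_iff, Nat.prime_dvd_prime_iff_eq hp Nat.prime_two] at h3
      exact hp2 h3
    exact (mul_eq_zero.1 ((mul_eq_zero.1 h2).resolve_left h20)).resolve_right hdet
  haveI : Finite (Additive D.F) := Finite.of_equiv _ Additive.ofMul
  obtain ⟨v, hv, hv0⟩ := Submodule.exists_mem_ne_zero_of_ne_bot (LinearMap.bot_lt_ker_of_det_eq_zero hY0).ne'
  obtain ⟨u, rfl⟩ := Additive.ofMul.surjective v
  have hu1 : u ≠ 1 := fun e => hv0 (by rw [e]; rfl)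
  rw [LinearMap.mem_ker, hY, LinearMap.sub_apply, sub_eq_zero, hL, hL] at hv
  have hc : x * u * x⁻¹ = x⁻¹ * u * x := by
    have := congrArg Subtype.val (Additive.ofMul.injective hv)
    simpa [cj, hx'] using this
  by_contra hne
  refine hu1 (Subtype.ext (D.isFpfOn.eq_one (mul_mem hx hx) hne u.2 ?_))
  rw [show (x * x) * (u : G) * (x * x)⁻¹ = x * (x * u * x⁻¹) * x⁻¹ by group, hc]
  group

/-- An involution swapping `a`, `b` whose centraliser in the two-point stabiliser has order two. -/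
theorem exists_swap_small [Finite G] (D : Data G a b) (hq : Odd (Nat.card D.F)) (hq1 : 1 < Nat.card D.F)
    (hfull : Nat.card ↥(stabilizer G a ⊓ stabilizer G b) + 1 = Nat.card D.F) :
    ∃ t z : G, z ∈ stabilizer G a ⊓ stabilizer G b ∧ z * z = 1 ∧ t * t = 1 ∧ t • a = b ∧ t • b = a ∧
      ∀ e ∈ stabilizer G a ⊓ stabilizer G b, t * e * t⁻¹ = e → e = 1 ∨ e = z := by
  classical
  obtain ⟨⟨z, hz⟩, hzo⟩ := exists_prime_orderOf_dvd_card' (G := ↥(stabilizer G a ⊓ stabilizer G b))
    (hp := ⟨Nat.prime_two⟩) 2 (by obtain ⟨i, hi⟩ := hq; omega)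
  rw [Subgroup.orderOf_mk] at hzo
  have hz1 : z ≠ 1 := fun e => by rw [e, orderOf_one] at hzo; omega
  have hzz : z * z = 1 := by rw [← pow_two, ← hzo, pow_orderOf_eq_one]
  have hFne : D.F ≠ ⊥ := fun e => by rw [e, Subgroup.card_bot] at hq1; omega
  have huniq : ∀ g ∈ stabilizer G a ⊓ stabilizer G b, g * g = 1 → g ≠ 1 → g = z := fun g hg hgg hg1 =>
    D.isFpfOn.unique_involution D.pair_le_normalizer hFne hz hg hzo
      (orderOf_eq_prime (by rw [pow_two]; exact hgg) hg1)
  haveI : Nontrivial D.F := Finite.one_lt_card_iff_nontrivial.1 hq1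
  obtain ⟨v, hv⟩ := exists_ne (1 : D.F)
  obtain ⟨c, hc⟩ : ∃ c, c = (v : G) • b := ⟨_, rfl⟩
  obtain ⟨c', hc'⟩ : ∃ c', c' = z • c := ⟨_, rfl⟩
  have hza : z • a = a := (Subgroup.mem_inf.1 hz).1
  have hzb : z • b = b := (Subgroup.mem_inf.1 hz).2
  have hca : c ≠ a := hc ▸ D.smul_b_ne v
  have hcb : c ≠ b := fun e => hv (Subtype.ext (D.eq_one_of_mem v.2 (hc ▸ e)))
  have hfixz : ∀ y : Ω, z • y = y → y = a ∨ y = b := fun y hy => by
    by_contra hne
    push Not at hne
    exact hz1 (D.fix z hza hzb y hne.1 hne.2 hy)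
  have hcc : c ≠ c' := fun e => by
    rcases hfixz c (hc'.symm.trans e.symm) with h | h
    · exact hca h
    · exact hcb h
  have hzc' : z • c' = c := by rw [hc', smul_smul, hzz, one_smul]
  obtain ⟨k, hka, hkb⟩ := D.exists_pair hcc
  obtain ⟨t, ht⟩ : ∃ t, t = k * z * k⁻¹ := ⟨_, rfl⟩
  have htc : t • c = c := by rw [ht, mul_smul, mul_smul, ← hka, inv_smul_smul, hza]
  have htc' : t • c' = c' := by rw [ht, mul_smul, mul_smul, ← hkb, inv_smul_smul, hzb]
  have htt : t * t = 1 := by
    rw [ht, show k * z * k⁻¹ * (k * z * k⁻¹) = k * (z * z) * k⁻¹ by group, hzz]; group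
  have htne : t ≠ 1 := fun e => hz1 (by rw [ht, conj_eq_one_iff] at e; exact e)
  have hzi : z⁻¹ = z := inv_eq_of_mul_eq_one_right hzz
  have hcomm : z * t = t * z := by
    obtain ⟨g, hg⟩ : ∃ g : G, g = k⁻¹ * (z * t * z⁻¹) * k := ⟨_, rfl⟩
    have hm : g ∈ stabilizer G a ⊓ stabilizer G b := Subgroup.mem_inf.2 ⟨by
        rw [mem_stabilizer_iff, hg, mul_smul, mul_smul, hka, mul_smul, mul_smul, hzi, ← hc', htc', hzc', inv_smul_eq_iff, hka],
      by
        rw [mem_stabilizer_iff, hg, mul_smul, mul_smul, hkb, mul_smul, mul_smul, hzi, hzc', htc, ← hc', inv_smul_eq_iff, hkb]⟩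
    have h' : g = z := huniq g hm (by
        rw [hg, show k⁻¹ * (z * t * z⁻¹) * k * (k⁻¹ * (z * t * z⁻¹) * k) = k⁻¹ * (z * (t * t) * z⁻¹) * k by group, htt]
        group) fun e' => htne (by
        rw [hg, show k⁻¹ * (z * t * z⁻¹) * k = (k⁻¹ * z) * t * (k⁻¹ * z)⁻¹ by group, conj_eq_one_iff] at e'
        exact e')
    calc z * t = k * g * k⁻¹ * z := by rw [hg]; group
      _ = t * z := by rw [h', ht]
  have hperm : ∀ y : Ω, z • y = y → z • t • y = t • y := fun y hy => by rw [smul_smul, hcomm, mul_smul, hy]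
  have hta : t • a = b := by
    refine (hfixz _ (hperm a hza)).resolve_left fun e => htne ?_
    have e' : t • b = b := (hfixz _ (hperm b hzb)).resolve_left fun h => D.ne (smul_left_cancel t (e.trans h.symm))
    exact D.fix t e e' c hca hcb htc
  refine ⟨t, z, hz, hzz, htt, hta, by rw [← hta, smul_smul, htt, one_smul], fun e he hte => ?_⟩
  have htf : t • (e • c) = e • c := by rw [smul_smul, mul_inv_eq_iff_eq_mul.1 hte, mul_smul, htc]
  by_cases h1 : e • c = c
  · exact Or.inl (D.fix e (Subgroup.mem_inf.1 he).1 (Subgroup.mem_inf.1 he).2 c hca hcb h1)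
  by_cases h2 : e • c = c'
  · right
    have hm := mul_mem (inv_mem hz) he
    have := D.fix _ (Subgroup.mem_inf.1 hm).1 (Subgroup.mem_inf.1 hm).2 c hca hcb
      (by rw [mul_smul, h2, inv_smul_eq_iff]; exact hc')
    exact (inv_mul_eq_one.1 this).symm
  exact absurd (D.three_fix t c c' (e • c) hcc (Ne.symm h2) (Ne.symm h1) htc htc' htf) htne

/-- For odd prime characteristic and odd exponent the two-point stabiliser is abelian. -/
theorem pair_comm_of_odd [Finite G] (D : Data G a b) {p f : ℕ} (hp : p.Prime) (hp2 : p ≠ 2)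
    (hexp : ∀ u ∈ D.F, u ^ p = 1) (hF : Nat.card D.F = p ^ f) (hf : Odd f)
    (hfull : Nat.card ↥(stabilizer G a ⊓ stabilizer G b) + 1 = Nat.card D.F) :
    ∀ h ∈ stabilizer G a ⊓ stabilizer G b, ∀ k ∈ stabilizer G a ⊓ stabilizer G b, h * k = k * h := by
  classical
  haveI : Fact (Nat.Prime 2) := ⟨Nat.prime_two⟩
  have hq : Odd (Nat.card D.F) := hF ▸ ((hp.eq_two_or_odd'.resolve_left hp2).pow)
  have hq1 : 1 < Nat.card D.F := hF ▸ Nat.one_lt_pow hf.pos.ne' hp.one_lt
  have hev : 2 ∣ Nat.card ↥(stabilizer G a ⊓ stabilizer G b) := by obtain ⟨i, hi⟩ := hq; omega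
  have hFne : D.F ≠ ⊥ := fun e => by rw [e, Subgroup.card_bot] at hq1; omega
  obtain ⟨t, z, hz, hzz, htt, hta, htb, hfix⟩ := D.exists_swap_small hq hq1 hfull
  obtain ⟨E, hE⟩ : ∃ E, E = stabilizer G a ⊓ stabilizer G b := ⟨_, rfl⟩
  rw [← hE] at hev hz hfix ⊢
  obtain ⟨P⟩ : Nonempty (Sylow 2 E) := inferInstance
  have hfp : Coprime.IsFpfOn E D.F := hE ▸ D.isFpfOn
  have hPc : IsCyclic P := by
    rcases hfp.sylow_cyclic_or_quaternion (hE ▸ D.pair_le_normalizer) hFne P with h | ⟨-, n, ⟨e⟩⟩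
    · exact h
    rcases Nat.eq_zero_or_pos n with rfl | hn
    · haveI : IsCyclic (QuaternionGroup (2 ^ 0)) := QuaternionGroup.quaternionGroup_one_isCyclic
      exact isCyclic_of_surjective _ e.symm.surjective
    exfalso
    haveI : NeZero ((2 : ℕ) ^ n) := ⟨by positivity⟩
    have hrel : QuaternionGroup.xa 0 * QuaternionGroup.a 1 =
        (QuaternionGroup.a 1)⁻¹ * (QuaternionGroup.xa 0 : QuaternionGroup (2 ^ n)) := by
      rw [eq_inv_mul_iff_mul_eq, QuaternionGroup.xa_mul_a, QuaternionGroup.a_mul_xa]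
      simp
    have hxx := D.no_inverted hp hp2 hexp hF hf (g := ((e.symm (QuaternionGroup.xa 0) : P) : E))
      (x := ((e.symm (QuaternionGroup.a 1) : P) : E)) (hE.le ((e.symm _ : P) : E).2) (hE.le ((e.symm _ : P) : E).2) (by
        rw [mul_inv_eq_iff_eq_mul]
        have h' := congrArg (fun y => (((e.symm y : P) : E) : G)) hrel
        simp only [map_mul, map_inv, Subgroup.coe_mul, InvMemClass.coe_inv] at h'
        exact h')
    have h1 : (QuaternionGroup.a 1 : QuaternionGroup (2 ^ n)) ^ 2 = 1 := by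
      rw [pow_two]
      apply e.symm.injective
      rw [map_mul, map_one]
      exact Subtype.ext (Subtype.ext hxx)
    have h2 := orderOf_dvd_of_pow_eq_one h1
    rw [QuaternionGroup.orderOf_a_one] at h2
    have h4 := Nat.le_of_dvd two_pos h2
    have : 2 ^ 1 ≤ 2 ^ n := Nat.pow_le_pow_right two_pos hn
    omega
  have hmin : (Nat.card E).minFac = 2 := (Nat.minFac_eq_two_iff _).2 hev
  letI : CommGroup P := hPc.commGroup
  let π : E →* P := MonoidHom.transferSylow P (hPc.normalizer_le_centralizer hmin)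
  have hcompl : π.ker.IsComplement' (P : Subgroup E) := hPc.isComplement' hmin
  have hOodd : Odd (Nat.card π.ker) := by
    rw [← hcompl.index_eq_card]
    exact Nat.not_even_iff_odd.1 fun h => P.not_dvd_index (even_iff_two_dvd.1 h)
  have hπrange : Nat.card π.range = Nat.card P := by
    rw [← Subgroup.index_ker]
    exact hcompl.symm.index_eq_card
  -- the automorphism induced by `t`
  have hmem : ∀ e : E, t * (e : G) * t⁻¹ ∈ E := by
    intro e
    have he := hE.le e.2
    refine hE.ge ?_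
    refine Subgroup.mem_inf.2 ⟨?_, ?_⟩ <;> rw [mem_stabilizer_iff, mul_smul, mul_smul]
    · rw [inv_smul_eq_iff.2 htb.symm, show (e : G) • b = b from (Subgroup.mem_inf.1 he).2, htb]
    · rw [inv_smul_eq_iff.2 hta.symm, show (e : G) • a = a from (Subgroup.mem_inf.1 he).1, hta]
  have hti : t⁻¹ = t := inv_eq_of_mul_eq_one_right htt
  let σ : E →* E := MonoidHom.mk' (fun e => ⟨t * (e : G) * t⁻¹, hmem e⟩) fun x y => Subtype.ext (by
    simp only [Subgroup.coe_mul]; group)
  have hσσ : ∀ e, σ (σ e) = e := fun e => Subtype.ext (by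
    show t * (t * (e : G) * t⁻¹) * t⁻¹ = e
    rw [hti, show t * (t * (e : G) * t) * t = (t * t) * e * (t * t) by group, htt, one_mul, mul_one])
  have hfix' : ∀ e : E, σ e = e → e = 1 ∨ e = ⟨z, hz⟩ := fun e he =>
    (hfix e e.2 (congrArg Subtype.val he)).imp (fun h => Subtype.ext h) (fun h => Subtype.ext h)
  have hσO : ∀ o ∈ π.ker, σ o ∈ π.ker := by
    intro o ho
    rw [MonoidHom.mem_ker, ← orderOf_eq_one_iff]
    have h1 : orderOf (π (σ o)) ∣ Nat.card π.ker :=
      ((orderOf_map_dvd π _).trans (orderOf_map_dvd σ _)).trans (Subgroup.orderOf_dvd_natCard _ ho)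
    obtain ⟨k, hk⟩ := (IsPGroup.iff_orderOf.1 P.2) (π (σ o))
    rw [hk] at h1 ⊢
    rcases Nat.eq_zero_or_pos k with rfl | hk0
    · rfl
    · exact absurd (even_iff_two_dvd.2 ((dvd_pow_self 2 hk0.ne').trans h1)) (Nat.not_even_iff_odd.2 hOodd)
  have hzO : (⟨z, hz⟩ : E) ∈ π.ker → z = 1 := by
    intro h
    by_contra hz1
    have ho : orderOf (⟨z, hz⟩ : E) = 2 := orderOf_eq_prime (Subtype.ext (by push_cast; rw [pow_two, hzz]))
      fun e => hz1 (congrArg Subtype.val e)
    exact Nat.not_even_iff_odd.2 hOodd (even_iff_two_dvd.2 (ho.symm.dvd.trans (Subgroup.orderOf_dvd_natCard _ h)))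
  -- `σ` inverts the normal 2-complement
  let f' : π.ker → π.ker := fun o => ⟨(o : E)⁻¹ * σ o, mul_mem (inv_mem o.2) (hσO o o.2)⟩
  have hf' : Function.Surjective f' := Finite.surjective_of_injective fun o o' h => by
    have h' : (o : E)⁻¹ * σ o = (o' : E)⁻¹ * σ o' := congrArg Subtype.val h
    have hfe : σ ((o' : E) * (o : E)⁻¹) = o' * (o : E)⁻¹ := by
      rw [inv_mul_eq_iff_eq_mul] at h'
      rw [map_mul, map_inv, h']
      group
    rcases hfix' _ hfe with e | e
    · exact Subtype.ext (mul_inv_eq_one.1 e).symm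
    · have := hzO (e ▸ mul_mem o'.2 (inv_mem o.2))
      exact Subtype.ext (mul_inv_eq_one.1 (e.trans (Subtype.ext this))).symm
  have hinvO : ∀ o ∈ π.ker, σ o = o⁻¹ := by
    intro o ho
    obtain ⟨x, hx⟩ := hf' ⟨o, ho⟩
    have hx' : (x : E)⁻¹ * σ x = o := congrArg Subtype.val hx
    rw [← hx', map_mul, map_inv, hσσ, mul_inv_rev, inv_inv]
  have hOc : ∀ o ∈ π.ker, ∀ o' ∈ π.ker, o * o' = o' * o := by
    intro o ho o' ho'
    have h := hinvO _ (mul_mem ho ho')
    rw [map_mul, hinvO o ho, hinvO o' ho', ← mul_inv_rev, inv_inj] at h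
    exact h.symm
  -- squares centralise it
  let δ : E →* P := MonoidHom.mk' (fun g => (π g)⁻¹ * π (σ g)) fun x y => by
    rw [map_mul, map_mul, map_mul, mul_inv, mul_mul_mul_comm]
  have hkerδ : ∀ g, δ g = 1 → g ∈ π.ker ∨ g * (⟨z, hz⟩ : E)⁻¹ ∈ π.ker := by
    intro g hg
    have hg' : π (σ g) = π g := (inv_mul_eq_one.1 hg).symm
    let X := {o : E // π o = π g}
    let s : Equiv.Perm X :=
      { toFun := fun o => ⟨σ o.1, by
          have h := hσO (g⁻¹ * o.1) (by rw [MonoidHom.mem_ker, map_mul, map_inv, o.2, inv_mul_cancel])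
          rw [MonoidHom.mem_ker, map_mul, map_inv, map_mul, map_inv, inv_mul_eq_one] at h
          exact h.symm.trans hg'⟩
        invFun := fun o => ⟨σ o.1, by
          have h := hσO (g⁻¹ * o.1) (by rw [MonoidHom.mem_ker, map_mul, map_inv, o.2, inv_mul_cancel])
          rw [MonoidHom.mem_ker, map_mul, map_inv, map_mul, map_inv, inv_mul_eq_one] at h
          exact h.symm.trans hg'⟩
        left_inv := fun o => Subtype.ext (hσσ o.1)
        right_inv := fun o => Subtype.ext (hσσ o.1) }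
    haveI : Fintype X := Fintype.ofFinite X
    have hXc : Nat.card X = Nat.card π.ker := Nat.card_congr
      { toFun := fun o => ⟨g⁻¹ * o.1, by rw [MonoidHom.mem_ker, map_mul, map_inv, o.2, inv_mul_cancel]⟩
        invFun := fun o => ⟨g * o.1, by rw [map_mul, MonoidHom.mem_ker.1 o.2, mul_one]⟩
        left_inv := fun o => Subtype.ext (mul_inv_cancel_left _ _)
        right_inv := fun o => Subtype.ext (inv_mul_cancel_left _ _) }
    obtain ⟨o, ho⟩ := Equiv.Perm.exists_fixed_point_of_prime (p := 2) (n := 1) (σ := s) (by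
      rw [← Nat.card_eq_fintype_card, hXc]
      exact fun h => Nat.not_even_iff_odd.2 hOodd (even_iff_two_dvd.2 h)) (by
      rw [pow_one, pow_two]
      exact Equiv.ext fun o => Subtype.ext (hσσ o.1))
    rcases hfix' o.1 (congrArg Subtype.val ho) with e | e
    · exact Or.inl (by rw [MonoidHom.mem_ker, ← o.2, e, map_one])
    · exact Or.inr (by rw [MonoidHom.mem_ker, map_mul, map_inv, ← o.2, e, mul_inv_cancel])
  have hker2 : Nat.card δ.ker ≤ 2 * Nat.card π.ker := by
    have hinj : Function.Injective (fun g : δ.ker =>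
        if h : (g : E) ∈ π.ker then Sum.inl (⟨g, h⟩ : π.ker)
        else Sum.inr (⟨(g : E) * (⟨z, hz⟩ : E)⁻¹, (hkerδ g g.2).resolve_left h⟩ : π.ker)) := by
      intro g g' h
      simp only at h
      split_ifs at h
      · exact Subtype.ext (congrArg Subtype.val (Sum.inl.inj h) :)
      · exact Subtype.ext (mul_right_cancel (congrArg Subtype.val (Sum.inr.inj h) :))
    have := Nat.card_le_card_of_injective _ hinj
    rw [Nat.card_sum] at this
    omega
  have hidx : δ.range.index ∣ 2 := by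
    have h1 := δ.ker.card_mul_index
    rw [Subgroup.index_ker] at h1
    have h2 := π.ker.card_mul_index
    rw [Subgroup.index_ker, hπrange, ← δ.range.card_mul_index] at h2
    have hpos : 0 < Nat.card π.ker := Nat.card_pos
    have hpos' : 0 < Nat.card δ.range := Nat.card_pos
    have h3 : δ.range.index ≤ 2 := by
      by_contra hc
      have h4 : Nat.card δ.ker * Nat.card δ.range ≤ 2 * (Nat.card π.ker * Nat.card δ.range) := by
        rw [← mul_assoc]; exact Nat.mul_le_mul_right _ hker2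
      have h5 : Nat.card π.ker * Nat.card δ.range * 3 ≤ Nat.card π.ker * (Nat.card δ.range * δ.range.index) := by
        rw [mul_assoc]; exact Nat.mul_le_mul_left _ (Nat.mul_le_mul_left _ (by omega))
      rw [h2, ← h1] at h5
      have : 0 < Nat.card π.ker * Nat.card δ.range := Nat.mul_pos hpos hpos'
      omega
    have h0 : δ.range.index ≠ 0 := Subgroup.index_ne_zero_of_finite
    rcases (by omega : δ.range.index = 1 ∨ δ.range.index = 2) with h | h <;> simp [h]
  have hsqc : ∀ g : E, ∀ o ∈ π.ker, (g * g) * o = o * (g * g) := by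
    intro g
    have hm : π g * π g ∈ δ.range := by
      rcases (Nat.dvd_prime Nat.prime_two).1 hidx with h | h
      · rw [Subgroup.index_eq_one.1 h]; exact Subgroup.mem_top _
      · exact Subgroup.mul_self_mem_of_index_two h _
    obtain ⟨h, hh⟩ := hm
    have hh' : π (h⁻¹ * σ h) = π (g * g) := by
      rw [map_mul, map_inv, map_mul π g g]; exact hh
    obtain ⟨r, hr⟩ : ∃ r, r = h⁻¹ * σ h := ⟨_, rfl⟩
    have hrc : ∀ o ∈ π.ker, r * o = o * r := by
      intro o ho
      have h1 := hinvO _ (((inferInstance : π.ker.Normal)).conj_mem o ho h)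
      rw [map_mul, map_mul, map_inv, hinvO o ho, mul_inv_rev, mul_inv_rev, inv_inv] at h1
      have h2 := congrArg (fun y => h⁻¹ * y * σ h) h1
      group at h2
      have h3 : r * o⁻¹ = o⁻¹ * r := by rw [hr]; group; exact h2
      exact (Commute.inv_right_iff.1 h3)
    intro o ho
    obtain ⟨s, hs, he⟩ : ∃ s ∈ π.ker, g * g = r * s :=
      ⟨r⁻¹ * (g * g), by rw [MonoidHom.mem_ker, map_mul, map_inv, hr, hh', inv_mul_cancel], by rw [mul_inv_cancel_left]⟩
    rw [he, mul_assoc, hOc s hs o ho, ← mul_assoc, hrc o ho, mul_assoc]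
  -- it is central
  have hcentral : ∀ g : E, ∀ o ∈ π.ker, g * o = o * g := by
    intro g o ho
    have hgo : g * o⁻¹ * g⁻¹ ∈ π.ker := (inferInstance : π.ker.Normal).conj_mem _ (inv_mem ho) g
    obtain ⟨x, hx⟩ : ∃ x, x = o * (g * o⁻¹ * g⁻¹) := ⟨_, rfl⟩
    have hxk : x ∈ π.ker := hx ▸ mul_mem ho hgo
    have hgx : g * x * g⁻¹ = x⁻¹ := by
      rw [hx, show g * (o * (g * o⁻¹ * g⁻¹)) * g⁻¹ = (g * o * g⁻¹) * ((g * g) * o⁻¹ * (g * g)⁻¹) by group,
        hsqc g o⁻¹ (inv_mem ho), mul_inv_cancel_right, mul_inv_rev]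
      group
    have hxx : x * x = 1 := by
      refine Subtype.ext ?_
      exact D.no_inverted hp hp2 hexp hF hf (hE.le g.2) (hE.le x.2)
        (by have := congrArg Subtype.val hgx; exact this)
    have hx1 : x = 1 := by
      by_contra hne
      have ho2 : orderOf x = 2 := orderOf_eq_prime (by rw [pow_two]; exact hxx) hne
      exact Nat.not_even_iff_odd.2 hOodd (even_iff_two_dvd.2 (ho2.symm.dvd.trans (Subgroup.orderOf_dvd_natCard _ hxk)))
    rw [hx] at hx1
    have h7 : g * o⁻¹ * g⁻¹ = o⁻¹ := (inv_eq_of_mul_eq_one_right hx1).symm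
    exact (Commute.inv_right_iff.1 (mul_inv_eq_iff_eq_mul.1 h7 : Commute g o⁻¹)).eq
  haveI : IsCyclic P := hPc
  haveI := MonoidHom.isMulCommutative_of_isCyclic_of_ker_le_center π
    (fun o ho => Subgroup.mem_center_iff.2 fun g => hcentral g o ho)
  intro h hh k hk
  exact congrArg Subtype.val (IsMulCommutative.is_comm.comm (⟨h, hh⟩ : E) ⟨k, hk⟩)

end Data

end CfsgLib.Perm.AbKernel
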