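import Cfsg.Agent.Lib.Char.ZassenhausOdd

/-!
# Transfer from a point stabiliser evaluated on a two-point stabiliser

The evaluation of the transfer in `ZassenhausOdd`, for arbitrary (not necessarily simple) Zassenhaus groups.
-/

set_option autoImplicit false
set_option linter.unusedSectionVars false

namespace CfsgLib.Perm.AbKernel

open Cfsg MulAction Subgroup CfsgLib.Char

variable {G Ω : Type*} [Group G] [Finite G] [MulAction G Ω] [Fintype Ω]

theorem transfer_pair (hZ : IsZassenhausGroup G Ω) {a b : Ω} (hab : a ≠ b) {A : Type*}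
    [CommGroup A] (φ : stabilizer G a →* A) {w u : G} (hwa : w • a = b) (hwb : w • b = a)
    (hu : u ∈ stabilizer G a ⊓ stabilizer G b) :
    φ.transfer u = φ ⟨u, hu.1⟩ *
      φ ⟨w⁻¹ * u * w, by rw [mem_stabilizer_iff, mul_smul, mul_smul, hwa, hu.2, inv_smul_eq_iff, hwa]⟩
      := by
  classical
  haveI := Fintype.ofFinite (G ⧸ stabilizer G a)
  haveI := Fintype.ofFinite (Quotient (orbitRel (zpowers u) (G ⧸ stabilizer G a)))
  rw [MonoidHom.transfer_eq_prod_quotient_orbitRel_zpowers_quot]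
  let qa : Quotient (orbitRel (zpowers u) (G ⧸ (stabilizer G a))) := Quotient.mk'' ((1 : G) : G ⧸ (stabilizer G a))
  let qb : Quotient (orbitRel (zpowers u) (G ⧸ (stabilizer G a))) := Quotient.mk'' ((w : G) : G ⧸ (stabilizer G a))
  have hfa : u • ((1 : G) : G ⧸ (stabilizer G a)) = ((1 : G) : G ⧸ (stabilizer G a)) := by
    rw [Quotient.smul_mk, smul_eq_mul, QuotientGroup.eq, mul_one, mul_one]
    exact (stabilizer G a).inv_mem hu.1
  have hfb : u • ((w : G) : G ⧸ (stabilizer G a)) = ((w : G) : G ⧸ (stabilizer G a)) := by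
    rw [Quotient.smul_mk, smul_eq_mul, QuotientGroup.eq, mem_stabilizer_iff, mul_inv_rev,
      mul_smul, mul_smul, hwa, inv_smul_eq_iff.2 hu.2.symm, inv_smul_eq_iff, hwa]
  have hout : ∀ {p : G ⧸ (stabilizer G a)}, u • p = p →
      (Quotient.mk'' p : Quotient (orbitRel (zpowers u) (G ⧸ (stabilizer G a)))).out = p := by
    intro p hp
    obtain ⟨⟨z, i, rfl⟩, hz⟩ := orbitRel_apply.1
      (Quotient.exact (Quotient.out_eq (Quotient.mk'' p : Quotient (orbitRel (zpowers u) (G ⧸ (stabilizer G a))))))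
    rw [← hz]
    exact (MulAction.mem_stabilizer_iff.1 (Subgroup.zpow_mem (stabilizer G p) hp i) :)
  have hne : qa ≠ qb := fun h => by
    have h1 := hout hfa
    rw [show (Quotient.mk'' ((1 : G) : G ⧸ (stabilizer G a)) : Quotient (orbitRel (zpowers u) (G ⧸ (stabilizer G a)))) = qb from h,
      hout hfb, QuotientGroup.eq, mul_one, mem_stabilizer_iff, inv_smul_eq_iff, hwa] at h1
    exact hab h1
  have hper : ∀ {p : G ⧸ (stabilizer G a)}, u • p = p → Function.minimalPeriod (u • ·) p = 1 := fun hp =>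
    Function.minimalPeriod_eq_one_iff_isFixedPt.2 hp
  have hone : ∀ q, q ≠ qa ∧ q ≠ qb → φ ⟨q.out.out⁻¹ * u ^ Function.minimalPeriod (u • ·) q.out *
      q.out.out, QuotientGroup.out_conj_pow_minimalPeriod_mem (stabilizer G a) u q.out⟩ = 1 := by
    rintro q ⟨hqa, hqb⟩
    convert φ.map_one using 2
    refine Subtype.ext ?_
    show q.out.out⁻¹ * u ^ Function.minimalPeriod (u • ·) q.out * q.out.out = 1
    set y := u ^ Function.minimalPeriod (u • ·) q.out with hy
    suffices y = 1 by rw [this, mul_one, inv_mul_cancel]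
    by_contra hy1
    have hfix : y • (q.out.out • a) = q.out.out • a := by
      have h := mem_stabilizer_iff.1 (QuotientGroup.out_conj_pow_minimalPeriod_mem (stabilizer G a) u q.out)
      rwa [← hy, mul_smul, mul_smul, inv_smul_eq_iff] at h
    have hyE : y ∈ stabilizer G a ⊓ stabilizer G b := pow_mem hu _
    rcases fixed_eq_or hZ hy1 hab hyE.1 hyE.2 hfix with e | e
    · apply hqa
      rw [← q.out_eq]
      refine congrArg _ ?_
      rw [← q.out.out_eq]
      exact QuotientGroup.eq.2 ((stabilizer G a).mul_mem ((stabilizer G a).inv_mem (mem_stabilizer_iff.2 e)) (stabilizer G a).one_mem)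
    · apply hqb
      rw [← q.out_eq]
      refine congrArg _ ?_
      rw [← q.out.out_eq]
      refine QuotientGroup.eq.2 (mem_stabilizer_iff.2 ?_)
      rw [mul_smul, hwa, inv_smul_eq_iff, e]
  rw [Fintype.prod_eq_mul qa qb hne hone]
  congr 1
  · set v : G := qa.out.out
    have hv : v ∈ (stabilizer G a) := by
      have h : ((v : G) : G ⧸ (stabilizer G a)) = ((1 : G) : G ⧸ (stabilizer G a)) := (Quotient.out_eq _).trans (hout hfa)
      rw [QuotientGroup.eq, mul_one, inv_mem_iff] at h
      exact h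
    have he : (⟨v⁻¹ * u ^ Function.minimalPeriod (u • ·) qa.out * v,
        QuotientGroup.out_conj_pow_minimalPeriod_mem (stabilizer G a) u qa.out⟩ : (stabilizer G a)) =
        ⟨v, hv⟩⁻¹ * ⟨u, hu.1⟩ * ⟨v, hv⟩ := Subtype.ext (by
      show v⁻¹ * u ^ Function.minimalPeriod (u • ·) qa.out * v = v⁻¹ * u * v
      rw [hout hfa, hper hfa, pow_one])
    rw [he, map_mul, map_mul, map_inv, mul_right_comm, inv_mul_cancel, one_mul]
  · set v : G := qb.out.out
    have hv : w⁻¹ * v ∈ (stabilizer G a) := by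
      have h : ((v : G) : G ⧸ (stabilizer G a)) = ((w : G) : G ⧸ (stabilizer G a)) := (Quotient.out_eq _).trans (hout hfb)
      rw [QuotientGroup.eq] at h
      have := (stabilizer G a).inv_mem h
      rwa [mul_inv_rev, inv_inv] at this
    have hmem : w⁻¹ * u * w ∈ (stabilizer G a) := by
      rw [mem_stabilizer_iff, mul_smul, mul_smul, hwa, hu.2, inv_smul_eq_iff, hwa]
    have he : (⟨v⁻¹ * u ^ Function.minimalPeriod (u • ·) qb.out * v,
        QuotientGroup.out_conj_pow_minimalPeriod_mem (stabilizer G a) u qb.out⟩ : (stabilizer G a)) =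
        ⟨w⁻¹ * v, hv⟩⁻¹ * ⟨w⁻¹ * u * w, hmem⟩ * ⟨w⁻¹ * v, hv⟩ := Subtype.ext (by
      show v⁻¹ * u ^ Function.minimalPeriod (u • ·) qb.out * v =
        (w⁻¹ * v)⁻¹ * (w⁻¹ * u * w) * (w⁻¹ * v)
      rw [hout hfb, hper hfb, pow_one]
      group)
    rw [he, map_mul, map_mul, map_inv, mul_right_comm, inv_mul_cancel, one_mul]

end CfsgLib.Perm.AbKernel
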