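import Cfsg.Agent.Lib.Perm.AbelianKernel.Large
import Cfsg.Agent.Lib.Perm.AbelianKernel.Transfer
import Cfsg.Agent.Lib.Perm.Groups.SharplyTwo

/-!
# The normal closure of an abelian regular normal subgroup of a point stabiliser

If the two-point stabiliser has odd order, either some normal subgroup is regular or every interchanging
element inverts the two-point stabiliser `E` and `|F| ≤ 2 |E| + 1`.
-/

set_option autoImplicit false
set_option linter.unusedSectionVars false
set_option linter.style.haveILetI false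

namespace CfsgLib.Perm.AbKernel

open MulAction Cfsg CfsgLib.Char

universe u

variable {G : Type u} [Group G] {Ω : Type*} [MulAction G Ω] {a b : Ω}

namespace Data

theorem exists_smul_eq_a (D : Data G a b) (x : Ω) : ∃ g : G, g • a = x := by
  by_cases h : x = a
  · exact ⟨1, by rw [one_smul, h]⟩
  · obtain ⟨u, hu, -⟩ := D.reg b x D.ne.symm h
    exact ⟨(u : G) * D.w, by rw [mul_smul, D.wa, hu]⟩

theorem exists_pair (D : Data G a b) {x y : Ω} (hxy : x ≠ y) : ∃ g : G, g • a = x ∧ g • b = y := by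
  obtain ⟨g, hg⟩ := D.exists_smul_eq_a x
  have hne : g⁻¹ • y ≠ a := fun e => hxy (by rw [← hg, ← e, smul_inv_smul])
  obtain ⟨u, hu, -⟩ := D.reg b (g⁻¹ • y) D.ne.symm hne
  refine ⟨g * u, ?_, by rw [mul_smul, hu, smul_inv_smul]⟩
  rw [mul_smul, show (u : G) • a = a from D.le u.2, hg]

theorem two_transitive (D : Data G a b) : IsMultiplyPretransitive G Ω 2 := by
  rw [MulAction.is_two_pretransitive_iff]
  intro x y x' y' h h'
  obtain ⟨g, h1, h2⟩ := D.exists_pair h
  obtain ⟨k, h3, h4⟩ := D.exists_pair h'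
  refine ⟨k * g⁻¹, ?_, ?_⟩
  · rw [mul_smul, ← h1, inv_smul_smul, h3]
  · rw [mul_smul, ← h2, inv_smul_smul, h4]

theorem three_fix (D : Data G a b) (g : G) (x y z : Ω) (hxy : x ≠ y) (hyz : y ≠ z) (hxz : x ≠ z)
    (hx : g • x = x) (hy : g • y = y) (hz : g • z = z) : g = 1 := by
  obtain ⟨k, hka, hkb⟩ := D.exists_pair hxy
  have h := D.fix (k⁻¹ * g * k) (by rw [mul_smul, mul_smul, hka, hx, inv_smul_eq_iff, hka])
    (by rw [mul_smul, mul_smul, hkb, hy, inv_smul_eq_iff, hkb]) (k⁻¹ • z)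
    (fun e => hxz (by rw [← hka, ← e, smul_inv_smul])) (fun e => hyz (by rw [← hkb, ← e, smul_inv_smul]))
    (by rw [mul_smul, mul_smul, smul_inv_smul, hz])
  rw [show g = k * (k⁻¹ * g * k) * k⁻¹ by group, h]
  group

theorem pair_le_normalizer (D : Data G a b) :
    stabilizer G a ⊓ stabilizer G b ≤ Subgroup.normalizer (D.F : Set G) := by
  intro e he
  rw [Subgroup.mem_normalizer_iff]
  intro u
  refine ⟨fun hu => D.normal e (Subgroup.mem_inf.1 he).1 u hu, fun hu => ?_⟩
  have := D.normal e⁻¹ (inv_mem (Subgroup.mem_inf.1 he).1) _ hu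
  simpa [mul_assoc] using this

theorem isFpfOn (D : Data G a b) : Coprime.IsFpfOn (stabilizer G a ⊓ stabilizer G b) D.F := by
  intro e he he1
  rw [eq_bot_iff]
  rintro u ⟨hu, hc⟩
  rw [Subgroup.mem_bot]
  by_contra hu1
  have hm := D.centralizer_le (k := ⟨u, D.le hu⟩) hu (fun h => hu1 (congrArg Subtype.val h))
    (Subgroup.mem_centralizer_singleton_iff.2
      (show (⟨e, (Subgroup.mem_inf.1 he).1⟩ : stabilizer G a) * ⟨u, D.le hu⟩ = ⟨u, D.le hu⟩ * ⟨e, (Subgroup.mem_inf.1 he).1⟩
        from Subtype.ext (Subgroup.mem_centralizer_singleton_iff.1 hc).symm))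
  exact he1 (D.eq_one_of_mem hm (mem_stabilizer_iff.1 (Subgroup.mem_inf.1 he).2))

theorem isZGroup [Finite G] (D : Data G a b) (h1 : 1 < Nat.card D.F)
    (hodd : Odd (Nat.card ↥(stabilizer G a ⊓ stabilizer G b))) :
    IsZGroup ↥(stabilizer G a ⊓ stabilizer G b) := by
  refine ⟨fun q hq Q => ?_⟩
  haveI := Fact.mk hq
  have hne : D.F ≠ ⊥ := fun h => by rw [h, Subgroup.card_bot] at h1; omega
  refine (D.isFpfOn.sylow_cyclic_or_quaternion D.pair_le_normalizer hne Q).resolve_right ?_
  rintro ⟨rfl, n, ⟨e⟩⟩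
  haveI : NeZero ((2 : ℕ) ^ n) := ⟨by positivity⟩
  have h4 := Nat.card_congr e.toEquiv
  rw [Nat.card_eq_fintype_card (α := QuaternionGroup (2 ^ n)), QuaternionGroup.card] at h4
  exact Nat.not_even_iff_odd.2 hodd (even_iff_two_dvd.2
    ((dvd_mul_of_dvd_left (by norm_num : 2 ∣ 4) _).trans
      (h4 ▸ Subgroup.card_subgroup_dvd_card (Q : Subgroup ↥(stabilizer G a ⊓ stabilizer G b)))))

/-- If `G` has no non-trivial character of order dividing `|E|`, the interchanging elements invert `E`. -/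
theorem inverted_of_transfer [Finite G] [Fintype Ω] (D : Data G a b) (hZ : IsZassenhausGroup G Ω)
    (h1 : 1 < Nat.card D.F) (hodd : Odd (Nat.card ↥(stabilizer G a ⊓ stabilizer G b)))
    (htriv : ∀ (A : Type u) [CommGroup A] (φ : G →* A),
      (∀ g : G, φ g ^ Nat.card ↥(stabilizer G a ⊓ stabilizer G b) = 1) → φ = 1)
    {w : G} (hwa : w • a = b) (hwb : w • b = a) :
    (∀ e ∈ stabilizer G a ⊓ stabilizer G b, w⁻¹ * e * w = e⁻¹) ∧ w * w = 1 := by
  classical
  haveI := D.isZGroup h1 hodd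
  have hab := D.ne
  set E := stabilizer G a ⊓ stabilizer G b with hE
  let σ : E →* E :=
    { toFun := fun u => ⟨w⁻¹ * u * w,
        (Subgroup.mem_normalizer_iff''.1 ((two_point_normalizer hZ hab w).2 (Or.inr ⟨hwa, hwb⟩)) u).1 u.2⟩
      map_one' := Subtype.ext (by simp)
      map_mul' := fun u v => Subtype.ext (by simp only [Subgroup.coe_mul]; group) }
  have hkey : ∀ m : E, m * σ m ∈ commutator E := by
    intro m
    have h := transfer_pair hZ hab (Abelianization.of.comp D.proj) hwa hwb m.2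
    rw [htriv _ ((Abelianization.of.comp D.proj : stabilizer G a →* Abelianization E).transfer) (fun g => by
      refine orderOf_dvd_iff_pow_eq_one.1 ((orderOf_dvd_natCard _).trans ?_)
      exact Subgroup.card_quotient_dvd_card _)] at h
    change 1 = Abelianization.of (D.proj ⟨m.1, _⟩) * Abelianization.of (D.proj ⟨(σ m).1, _⟩) at h
    rw [D.proj_of_fix m, D.proj_of_fix (σ m), ← map_mul] at h
    rw [← Abelianization.ker_of, MonoidHom.mem_ker]
    exact h.symm
  haveI : IsCyclic (commutator E) := IsZGroup.isCyclic_commutator E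
  have hDn : (commutator E).Normal := inferInstance
  have hDc : ∀ x ∈ commutator E, ∀ y ∈ commutator E, x * y = y * x := fun x hx y hy => by
    letI := IsCyclic.commGroup (α := commutator E)
    exact congrArg Subtype.val (mul_comm (⟨x, hx⟩ : commutator E) ⟨y, hy⟩)
  obtain ⟨⟨d0, hd0⟩, hgen⟩ := IsCyclic.exists_generator (α := commutator E)
  have hgen' : ∀ x ∈ commutator E, ∃ i : ℤ, d0 ^ i = x := fun x hx => by
    obtain ⟨i, hi⟩ := hgen ⟨x, hx⟩
    exact ⟨i, congrArg Subtype.val hi⟩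
  have hcentral : ∀ m : E, ∀ d ∈ commutator E, (m * m) * d = d * (m * m) := by
    intro m d hd
    obtain ⟨k, hk⟩ := hgen' _ (hDn.conj_mem d0 hd0 m)
    have hpow : ∀ x ∈ commutator E, m * x * m⁻¹ = x ^ k := by
      intro x hx
      obtain ⟨i, rfl⟩ := hgen' x hx
      rw [← conj_zpow, ← hk, ← zpow_mul, ← zpow_mul, mul_comm]
    have hσD : ∀ x ∈ commutator E, σ x ∈ commutator E := by
      intro x hx
      have h := (commutator E).mul_mem ((commutator E).inv_mem hx) (hkey x)
      rwa [inv_mul_cancel_left] at h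
    obtain ⟨⟨e, he⟩, rfl⟩ : ∃ e : commutator E, σ e.1 = d := by
      let τ : commutator E → commutator E := fun x => ⟨σ x.1, hσD x.1 x.2⟩
      have hτ : Function.Injective τ := fun x y h => by
        have h' := congrArg (fun z : commutator E => ((z.1 : E) : G)) h
        exact Subtype.ext (Subtype.ext (mul_left_cancel (mul_right_cancel h')))
      obtain ⟨x, hx⟩ := Finite.surjective_of_injective hτ ⟨d, hd⟩
      exact ⟨x, congrArg Subtype.val hx⟩
    set c := m * σ m with hcdef
    have hσm : σ m = m⁻¹ * c := by rw [hcdef, inv_mul_cancel_left]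
    have hcd : c * σ e * c⁻¹ = σ e :=
      mul_inv_eq_iff_eq_mul.2 (hDc _ (hkey m) _ (hσD e he))
    have h1 : σ (m * e * m⁻¹) = m⁻¹ * σ e * m := by
      rw [map_mul, map_mul, map_inv, hσm]
      calc m⁻¹ * c * σ e * (m⁻¹ * c)⁻¹ = m⁻¹ * (c * σ e * c⁻¹) * m := by group
        _ = _ := by rw [hcd]
    have h2 : σ (m * e * m⁻¹) = m * σ e * m⁻¹ := by
      rw [hpow e he, map_zpow, hpow _ (hσD e he)]
    calc (m * m) * σ e = m * (m * σ e * m⁻¹) * m := by group
      _ = m * (m⁻¹ * σ e * m) * m := by rw [← h1, h2]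
      _ = _ := by group
  have hsq : ∀ m : E, ∃ n : E, n * n = m := by
    intro m
    obtain ⟨k, hk⟩ := exists_pow_eq_self_of_coprime (x := m) (n := 2)
      ((Nat.prime_two.coprime_iff_not_dvd).2 fun h => Nat.not_even_iff_odd.2 hodd
        (even_iff_two_dvd.2 (h.trans (orderOf_dvd_natCard m))))
    exact ⟨m ^ k, by rw [← pow_add, ← two_mul, pow_mul, hk]⟩
  have hker : (Abelianization.of : E →* Abelianization E).ker ≤ Subgroup.center E := by
    rw [Abelianization.ker_of]
    intro d hd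
    rw [Subgroup.mem_center_iff]
    intro g
    obtain ⟨n, rfl⟩ := hsq g
    exact hcentral n d hd
  have hab' : ∀ x y : E, x * y = y * x :=
    (MonoidHom.isMulCommutative_of_isCyclic_of_ker_le_center _ hker).is_comm.comm
  have hbot : commutator E = ⊥ := by
    rw [_root_.commutator_def, Subgroup.commutator_eq_bot_iff_le_centralizer]
    exact fun x _ y _ => hab' y x
  have hinv : ∀ u ∈ E, w⁻¹ * u * w = u⁻¹ := fun u hu => by
    have h := hkey ⟨u, hu⟩
    rw [hbot, Subgroup.mem_bot, mul_eq_one_iff_inv_eq] at h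
    exact (congrArg Subtype.val h).symm
  refine ⟨hinv, ?_⟩
  have hw2 : w * w ∈ E := Subgroup.mem_inf.2 ⟨by show (w * w) • a = a; rw [mul_smul, hwa, hwb],
    by show (w * w) • b = b; rw [mul_smul, hwb, hwa]⟩
  have h1 := hinv _ hw2
  rw [inv_mul_cancel_left] at h1
  have h4 : (w * w) * (w * w) = 1 := by
    nth_rewrite 1 [h1]
    exact inv_mul_cancel _
  obtain ⟨k, hk⟩ := exists_pow_eq_self_of_coprime (x := (⟨w * w, hw2⟩ : E)) (n := 2)
    ((Nat.prime_two.coprime_iff_not_dvd).2 fun h => Nat.not_even_iff_odd.2 hodd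
      (even_iff_two_dvd.2 (h.trans (orderOf_dvd_natCard _))))
  have e : (⟨w * w, hw2⟩ : E) ^ 2 = 1 := Subtype.ext (by rw [pow_two]; exact h4)
  rw [e, one_pow] at hk
  exact (congrArg Subtype.val hk).symm

/-- A normal subgroup generated by conjugates of `F` has no non-trivial character of order dividing `d`,
when `d` is coprime to `|F|`. -/
theorem hom_closure_eq_one (D : Data G a b) {A : Type*} [CommGroup A]
    (φ : Subgroup.normalClosure (D.F : Set G) →* A) {d : ℕ} (hco : (Nat.card D.F).Coprime d)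
    (hpow : ∀ g, φ g ^ d = 1) : φ = 1 := by
  have hgen : ∀ (x : G) (hx : x ∈ Subgroup.normalClosure (D.F : Set G)), φ ⟨x, hx⟩ = 1 := by
    intro x hx
    induction hx using Subgroup.closure_induction with
    | mem x hx =>
      obtain ⟨u, hu, hc⟩ := Group.mem_conjugatesOfSet_iff.1 hx
      obtain ⟨g, rfl⟩ := isConj_iff.1 hc
      have hq : (φ ⟨_, Subgroup.subset_closure hx⟩) ^ Nat.card D.F = 1 := by
        rw [← map_pow, ← map_one φ]
        refine congrArg φ (Subtype.ext ?_)
        show (g * u * g⁻¹) ^ Nat.card D.F = 1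
        have hu1 : u ^ Nat.card D.F = 1 := congrArg Subtype.val (pow_card_eq_one' (x := (⟨u, hu⟩ : D.F)))
        rw [conj_pow, hu1, mul_one, mul_inv_cancel]
      have h := pow_gcd_eq_one.2 ⟨hq, hpow _⟩
      rwa [hco, pow_one] at h
    | one => exact map_one φ
    | mul x y hx hy ihx ihy =>
      exact (map_mul φ ⟨x, hx⟩ ⟨y, hy⟩).trans (by rw [ihx, ihy, one_mul])
    | inv x hx ih => exact (map_inv φ ⟨x, hx⟩).trans (by rw [ih, inv_one])
  exact MonoidHom.ext fun g => hgen g.1 g.2

/-- The structure transported to the normal closure of `F`. -/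
theorem exists_closure_data (D : Data G a b) [Finite G] (h1 : 1 < Nat.card D.F) :
    ∃ D₁ : Data ↥(Subgroup.normalClosure (D.F : Set G)) a b, D₁.F = D.F.subgroupOf _ := by
  obtain ⟨F, hFdef⟩ : ∃ F, F = D.F := ⟨_, rfl⟩
  have hsub : D.F ≤ Subgroup.normalClosure (D.F : Set G) := Subgroup.le_normalClosure
  haveI : Nontrivial D.F := Finite.one_lt_card_iff_nontrivial.1 h1
  obtain ⟨u, hu⟩ := exists_ne (1 : D.F)
  have hcb : (u : G) • b ≠ b := fun e => hu (Subtype.ext (D.eq_one_of_mem u.2 e))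
  obtain ⟨v, hv⟩ : ∃ v : G, v = D.w * u * D.w⁻¹ := ⟨_, rfl⟩
  have hvm : v ∈ Subgroup.normalClosure (D.F : Set G) := hv ▸ Subgroup.normalClosure_normal.conj_mem _ (hsub u.2) _
  have hwia : D.w⁻¹ • a = b := by rw [inv_smul_eq_iff, D.wb]
  have hva : v • a = D.w • ((u : G) • b) := by rw [hv, mul_smul, mul_smul, hwia]
  have hvane : v • a ≠ a := fun e => hcb (smul_left_cancel D.w ((hva.symm.trans e).trans D.wb.symm))
  obtain ⟨u', hu', -⟩ := D.reg (v • a) b hvane D.ne.symm
  obtain ⟨g, hg⟩ : ∃ g : G, g = (u' : G) * v := ⟨_, rfl⟩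
  have hgm : g ∈ Subgroup.normalClosure (D.F : Set G) := hg ▸ mul_mem (hsub u'.2) hvm
  have hga : g • a = b := by rw [hg, mul_smul, hu']
  have hz : g⁻¹ • a ≠ a := fun e => D.ne (by rw [← hga]; exact (inv_smul_eq_iff.1 e).trans rfl)
  obtain ⟨u'', hu'', -⟩ := D.reg b (g⁻¹ • a) D.ne.symm hz
  refine ⟨{
    F := D.F.subgroupOf _
    w := ⟨g * u'', mul_mem hgm (hsub u''.2)⟩
    ne := D.ne
    le := fun x hx => D.le hx
    normal := fun x hx y hy => D.normal x hx y hy
    comm := fun x hx y hy => Subtype.ext (D.comm x hx y hy)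
    reg := fun y z hy hz => by
      obtain ⟨x, hx, huniq⟩ := D.reg y z hy hz
      exact ⟨⟨⟨x, hsub x.2⟩, x.2⟩, hx, fun x' hx' =>
        Subtype.ext (Subtype.ext (congrArg Subtype.val (huniq ⟨_, x'.2⟩ hx') :))⟩
    fix := fun x ha hb c hca hcb hc => Subtype.ext (D.fix x ha hb c hca hcb hc)
    wa := by
      show (g * (u'' : G)) • a = b
      rw [mul_smul, show (u'' : G) • a = a from D.le u''.2, hga]
    wb := by
      show (g * (u'' : G)) • b = a
      rw [mul_smul, hu'', smul_inv_smul] }, rfl⟩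

/-- Either a regular normal subgroup, or inversion and a large two-point stabiliser. -/
theorem dichotomy [Finite G] [Fintype Ω] [FaithfulSMul G Ω] (D : Data G a b) (h1 : 1 < Nat.card D.F)
    (hodd : Odd (Nat.card ↥(stabilizer G a ⊓ stabilizer G b))) :
    (∃ K : Subgroup G, K.Normal ∧ (∀ x ∈ K, ∀ y ∈ K, x * y = y * x) ∧
      ∀ x y : Ω, ∃! k : K, (k : G) • x = y) ∨
    ((∀ w : G, w • a = b → w • b = a →
        (∀ e ∈ stabilizer G a ⊓ stabilizer G b, w⁻¹ * e * w = e⁻¹) ∧ w * w = 1) ∧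
      Nat.card D.F ≤ 2 * Nat.card ↥(stabilizer G a ⊓ stabilizer G b) + 1) := by
  classical
  obtain ⟨D₁, hD₁⟩ := D.exists_closure_data h1
  obtain ⟨G₁, hG₁⟩ : ∃ G₁, G₁ = Subgroup.normalClosure (D.F : Set G) := ⟨_, rfl⟩
  have hF₁ : Nat.card D₁.F = Nat.card D.F := by
    rw [hD₁]; exact Nat.card_congr (Subgroup.subgroupOfEquivOfLe Subgroup.le_normalClosure).toEquiv
  haveI : FaithfulSMul ↥(Subgroup.normalClosure (D.F : Set G)) Ω :=
    ⟨fun {x y} h => Subtype.ext (eq_of_smul_eq_smul (α := Ω) h)⟩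
  let N := Subgroup.normalClosure (D.F : Set G)
  by_cases hE : stabilizer N a ⊓ stabilizer N b = ⊥
  · -- sharply doubly transitive
    left
    let φ : G →* Equiv.Perm Ω := MulAction.toPermHom G Ω
    have hφ : Function.Injective φ := fun x y h => eq_of_smul_eq_smul (α := Ω) fun z => Equiv.congr_fun h z
    have h2 : IsMultiplyPretransitive (N.map φ) Ω 2 := by
      haveI := D₁.two_transitive
      rw [MulAction.is_two_pretransitive_iff]
      intro x y x' y' h h'
      obtain ⟨g, hg1, hg2⟩ := MulAction.is_two_pretransitive_iff.1 D₁.two_transitive h h'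
      exact ⟨⟨φ g, g, g.2, rfl⟩, hg1, hg2⟩
    have hs : ∀ x : Fin 2 ↪ Ω, stabilizer (N.map φ) x = ⊥ := by
      intro e
      rw [eq_bot_iff]
      rintro ⟨_, g, hg, rfl⟩ hst
      rw [Subgroup.mem_bot]
      obtain ⟨k, hk1, hk2⟩ := D₁.exists_pair (fun h => absurd (e.injective h) (by decide) : e 0 ≠ e 1)
      have hm : k⁻¹ * ⟨g, hg⟩ * k ∈ stabilizer N a ⊓ stabilizer N b := by
        have e0 : (⟨g, hg⟩ : N) • e 0 = e 0 := congrArg (fun f : Fin 2 ↪ Ω => f 0) hst
        have e1 : (⟨g, hg⟩ : N) • e 1 = e 1 := congrArg (fun f : Fin 2 ↪ Ω => f 1) hst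
        refine Subgroup.mem_inf.2 ⟨?_, ?_⟩
        · rw [mem_stabilizer_iff, mul_smul, mul_smul, hk1, e0, inv_smul_eq_iff, hk1]
        · rw [mem_stabilizer_iff, mul_smul, mul_smul, hk2, e1, inv_smul_eq_iff, hk2]
      rw [hE, Subgroup.mem_bot] at hm
      have : (⟨g, hg⟩ : N) = 1 := by
        rw [show (⟨g, hg⟩ : N) = k * (k⁻¹ * ⟨g, hg⟩ * k) * k⁻¹ by group, hm]; group
      exact Subtype.ext (by
        show φ g = 1
        rw [show g = 1 from congrArg Subtype.val this, map_one])
    obtain ⟨p, K, hp, -, hKc, -, hKmem, hKreg, -⟩ := CfsgLib.Perm.Groups.sharp_two_kernel h2 hs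
      (Fintype.one_lt_card_iff.2 ⟨a, b, D.ne⟩)
    have hmemN : ∀ k ∈ K.map (N.map φ).subtype, ∀ g, φ g = k → g ∈ N ∧ (g = 1 ∨ ∀ c : Ω, g • c ≠ c) := by
      rintro _ ⟨k, hk, rfl⟩ g hg
      obtain ⟨g', hg', e⟩ := k.2
      obtain rfl : g' = g := hφ (e.trans hg.symm)
      refine ⟨hg', ((hKmem k).1 hk).imp (fun h => hφ ((e.trans (congrArg Subtype.val h)).trans (map_one φ).symm)) fun h c hc => h c ?_⟩
      show (k : Equiv.Perm Ω) c = c
      rw [← e]; exact hc
    refine ⟨(K.map (N.map φ).subtype).comap φ, ⟨fun x hx g => ?_⟩, ?_, fun x y => ?_⟩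
    · obtain ⟨hxN, hx'⟩ := hmemN _ hx x rfl
      have hgN : g * x * g⁻¹ ∈ N := Subgroup.normalClosure_normal.conj_mem x hxN g
      refine ⟨⟨φ (g * x * g⁻¹), _, hgN, rfl⟩, (hKmem _).2 ?_, rfl⟩
      rcases hx' with rfl | hx'
      · exact Or.inl (Subtype.ext (by simp))
      · refine Or.inr fun c hc => hx' (g⁻¹ • c) ?_
        have hc' : (g * x * g⁻¹) • c = c := hc
        rwa [mul_smul, mul_smul, smul_eq_iff_eq_inv_smul] at hc'
    · intro x hx y hy
      obtain ⟨k, hk, ek⟩ := hx
      obtain ⟨l, hl, el⟩ := hy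
      apply hφ
      rw [map_mul, map_mul, ← ek, ← el]
      exact congrArg Subtype.val (hKc k hk l hl)
    · obtain ⟨⟨⟨_, g, hg, rfl⟩, hk⟩, hkx, huniq⟩ := hKreg x y
      refine ⟨⟨g, ⟨_, _⟩, hk, rfl⟩, hkx, ?_⟩
      rintro ⟨g', k', hk', e⟩ hg'
      refine Subtype.ext (hφ ?_)
      have := huniq ⟨k', hk'⟩ ((Equiv.congr_fun (e : (k' : Equiv.Perm Ω) = φ g') x).trans hg')
      exact (e : (k' : Equiv.Perm Ω) = φ g').symm.trans (congrArg (fun z : K => ((z.1 : N.map φ) : Equiv.Perm Ω)) this)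
  · -- the closure is a Zassenhaus group
    right
    have hdvd : Nat.card ↥(stabilizer N a ⊓ stabilizer N b) ∣ Nat.card ↥(stabilizer G a ⊓ stabilizer G b) :=
      Subgroup.card_dvd_of_injective
        ({ toFun := fun e => ⟨(e.1 : G), Subgroup.mem_inf.2 ⟨(Subgroup.mem_inf.1 e.2).1, (Subgroup.mem_inf.1 e.2).2⟩⟩
           map_one' := rfl
           map_mul' := fun _ _ => rfl } : ↥(stabilizer N a ⊓ stabilizer N b) →* ↥(stabilizer G a ⊓ stabilizer G b))
        (fun x y h => Subtype.ext (Subtype.ext (congrArg Subtype.val h :)))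
    have hodd₁ := hodd.of_dvd_nat hdvd
    have hco : (Nat.card D.F).Coprime (Nat.card ↥(stabilizer N a ⊓ stabilizer N b)) :=
      D.coprime.coprime_dvd_right hdvd
    have hkill : ∀ (A : Type u) [CommGroup A] (φ : N →* A),
        (∀ g, φ g ^ Nat.card ↥(stabilizer N a ⊓ stabilizer N b) = 1) → φ = 1 :=
      fun A _ φ h => D.hom_closure_eq_one φ hco h
    have hd1 : 1 < Nat.card ↥(stabilizer N a ⊓ stabilizer N b) := by
      haveI := (Subgroup.nontrivial_iff_ne_bot _).2 hE
      exact Finite.one_lt_card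
    have hZ : IsZassenhausGroup N Ω := by
      refine ⟨inferInstance, D₁.two_transitive, D₁.three_fix, ?_, ?_⟩
      · obtain ⟨e, he, he1⟩ := (Subgroup.ne_bot_iff_exists_ne_one).1 hE |> fun ⟨e, he⟩ =>
          (⟨(e : N), e.2, fun h => he (Subtype.ext h)⟩ : ∃ e, e ∈ stabilizer N a ⊓ stabilizer N b ∧ e ≠ 1)
        exact ⟨e, he1, a, b, D.ne, (Subgroup.mem_inf.1 he).1, (Subgroup.mem_inf.1 he).2⟩
      · intro M hM htr
        by_contra hno
        push Not at hno
        have huniq : ∀ g : N, ∃! m : M, (m : N)⁻¹ * g ∈ stabilizer N a := by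
          intro g
          obtain ⟨m, hm⟩ := MulAction.exists_smul_eq M a (g • a)
          refine ⟨m, ?_, fun m' hm' => ?_⟩
          · show ((m : N)⁻¹ * g) • a = a
            rw [mul_smul, inv_smul_eq_iff]
            exact hm.symm
          · have h' : ((m' : N)⁻¹ * g) • a = a := hm'
            rw [mul_smul, inv_smul_eq_iff] at h'
            have hin : m'⁻¹ * m ∈ stabilizer M a := by
              rw [mem_stabilizer_iff, mul_smul, hm, inv_smul_eq_iff]
              exact h'
            rw [hno a, Subgroup.mem_bot, inv_mul_eq_one] at hin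
            exact hin
        choose μ hμ hμu using huniq
        let π : N →* stabilizer N a :=
          { toFun := fun g => ⟨(μ g : N)⁻¹ * g, hμ g⟩
            map_one' := Subtype.ext (by
              have : μ 1 = 1 := (hμu 1 1 (by simp)).symm
              simp [this])
            map_mul' := fun g k => Subtype.ext (by
              have hm : (μ g : N) * (((μ g : N)⁻¹ * g) * (μ k : N) * ((μ g : N)⁻¹ * g)⁻¹) ∈ M :=
                mul_mem (μ g).2 (hM.conj_mem _ (μ k).2 _)
              have h := hμu (g * k) ⟨_, hm⟩ (by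
                show _⁻¹ * (g * k) ∈ stabilizer N a
                have := mul_mem (hμ g) (hμ k)
                convert this using 1
                group)
              show (μ (g * k) : N)⁻¹ * (g * k) = ((μ g : N)⁻¹ * g) * ((μ k : N)⁻¹ * k)
              rw [← h]
              group) }
        haveI := D₁.isZGroup (hF₁ ▸ h1) hodd₁
        haveI := (Subgroup.nontrivial_iff_ne_bot _).2 hE
        let E₁ := ↥(stabilizer N a ⊓ stabilizer N b)
        have hk := hkill (Abelianization E₁) ((Abelianization.of.comp D₁.proj).comp π) fun g =>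
          orderOf_dvd_iff_pow_eq_one.1 ((orderOf_dvd_natCard _).trans (Subgroup.card_quotient_dvd_card _))
        refine (IsSolvable.commutator_lt_top_of_nontrivial E₁).ne ?_
        rw [eq_top_iff]
        intro e _
        rw [← Abelianization.ker_of, MonoidHom.mem_ker]
        have h := DFunLike.congr_fun hk (e.1)
        have hπ : π e.1 = ⟨e.1, (Subgroup.mem_inf.1 e.2).1⟩ := Subtype.ext (by
          have : μ e.1 = 1 := (hμu e.1 1 (by simpa using (Subgroup.mem_inf.1 e.2).1)).symm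
          show (μ e.1 : N)⁻¹ * e.1 = e.1
          simp [this])
        simp only [MonoidHom.comp_apply, hπ, MonoidHom.one_apply] at h
        rwa [D₁.proj_of_fix e] at h
    obtain ⟨hinv₁, -⟩ := D₁.inverted_of_transfer hZ (hF₁ ▸ h1) hodd₁ hkill D₁.wa D₁.wb
    have hlarge : Nat.card D₁.F ≤ 2 * Nat.card ↥(stabilizer N a ⊓ stabilizer N b) + 1 :=
      D₁.large hodd₁ hd1 hinv₁
    rw [hF₁] at hlarge
    -- the closure is everything
    have hle : Nat.card ↥(stabilizer G a ⊓ stabilizer G b) ∣ Nat.card D.F - 1 := by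
      have h := D.isFpfOn.card_mod D.pair_le_normalizer
      exact (Nat.modEq_iff_dvd' (by omega)).1 (Nat.ModEq.symm h)
    have heq : Nat.card ↥(stabilizer N a ⊓ stabilizer N b) = Nat.card ↥(stabilizer G a ⊓ stabilizer G b) := by
      obtain ⟨m, hm⟩ := hdvd
      have hmodd : Odd m := (hm ▸ hodd).of_dvd_nat (Dvd.intro_left _ rfl)
      rcases Nat.lt_or_ge m 2 with hm2 | hm2
      · obtain ⟨j, rfl⟩ := hmodd
        rw [hm, show 2 * j + 1 = 1 by omega, mul_one]
      · obtain ⟨j, rfl⟩ := hmodd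
        have h3 : Nat.card ↥(stabilizer N a ⊓ stabilizer N b) * 3 ≤
            Nat.card ↥(stabilizer G a ⊓ stabilizer G b) := by
          rw [hm]; exact Nat.mul_le_mul_left _ (by omega)
        have := Nat.le_of_dvd (by omega) hle
        omega
    have htop : ∀ g : G, g ∈ N := by
      have hEle : stabilizer G a ⊓ stabilizer G b ≤ N := by
        intro e he
        by_contra hne
        obtain ⟨x, hx⟩ := ((Nat.bijective_iff_injective_and_card
          (fun x : ↥(stabilizer N a ⊓ stabilizer N b) =>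
            (⟨(x.1 : G), Subgroup.mem_inf.2 ⟨(Subgroup.mem_inf.1 x.2).1, (Subgroup.mem_inf.1 x.2).2⟩⟩ :
              ↥(stabilizer G a ⊓ stabilizer G b)))).2
          ⟨fun x y h => Subtype.ext (Subtype.ext (congrArg Subtype.val h :)), heq⟩).2 ⟨e, he⟩
        have hxe : (x.1 : G) = e := congrArg Subtype.val hx
        exact hne (hxe ▸ x.1.2)
      intro g
      obtain ⟨k, hk⟩ := D₁.exists_smul_eq_a (g • a)
      have hs : (k : G)⁻¹ * g ∈ stabilizer G a := by
        rw [mem_stabilizer_iff, mul_smul, inv_smul_eq_iff]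
        exact hk.symm
      have hx : (k : G)⁻¹ * g ∈ N := by
        have h := D.stabEquiv.apply_symm_apply ⟨_, hs⟩
        rw [← show ((D.stabEquiv (D.stabEquiv.symm ⟨_, hs⟩) : stabilizer G a) : G) = (k : G)⁻¹ * g from
          congrArg Subtype.val h]
        exact mul_mem (Subgroup.le_normalClosure (D.stabEquiv.symm ⟨_, hs⟩).1.2) (hEle (D.stabEquiv.symm ⟨_, hs⟩).2.2)
      have := mul_mem k.2 hx
      rwa [mul_inv_cancel_left] at this
    refine ⟨fun w hwa hwb => ?_, by rw [← heq]; exact hlarge⟩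
    obtain ⟨h1', h2'⟩ := D₁.inverted_of_transfer hZ (hF₁ ▸ h1) hodd₁ hkill (w := ⟨w, htop w⟩) hwa hwb
    exact ⟨fun e he => congrArg Subtype.val (h1' ⟨e, htop e⟩ (Subgroup.mem_inf.2
      ⟨(Subgroup.mem_inf.1 he).1, (Subgroup.mem_inf.1 he).2⟩)), congrArg Subtype.val h2'⟩

end Data

end CfsgLib.Perm.AbKernel
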