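import Cfsg.Agent.Lib.Perm.AbelianKernel.Three
import Cfsg.Agent.Lib.Perm.AbelianKernel.Recognise
import Cfsg.Agent.Lib.Perm.Zassenhaus.Even
import Cfsg.Agent.Lib.Perm.Zassenhaus.OddDegree
import Cfsg.Prelude.Def_Perm

/-!
# Transitive groups of degree `p + 1` and order `(p + 1) p d`, `d < p`
-/

set_option autoImplicit false
set_option linter.unusedSectionVars false
set_option linter.style.haveILetI false

namespace CfsgLib.Perm.AbKernel

open MulAction Cfsg CfsgLib.Perm

variable {α : Type*} [Fintype α] [DecidableEq α]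

/-- A point stabiliser of order `p d`, `d < p`, contains a regular normal subgroup of order `p`. -/
theorem exists_data_prime {p d : ℕ} (hp : p.Prime) (hα : Fintype.card α = p + 1) (G : Subgroup (Equiv.Perm α))
    [IsPretransitive G α] (hG : Nat.card G = (p + 1) * p * d) (hd : d < p) :
    ∃ (a b : α) (D : Data G a b), Nat.card D.F = p ∧
      Nat.card ↥(stabilizer G a ⊓ stabilizer G b) = d ∧
      (∀ h ∈ stabilizer G a ⊓ stabilizer G b, ∀ k ∈ stabilizer G a ⊓ stabilizer G b, h * k = k * h) := by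
  classical
  haveI := Fact.mk hp
  have hd0 : 0 < d := Nat.pos_of_ne_zero fun e => by
    rw [e, mul_zero] at hG
    exact (Nat.card_pos (α := G)).ne' hG
  obtain ⟨a⟩ : Nonempty α := Fintype.card_pos_iff.1 (by omega)
  have hst : Nat.card (stabilizer G a) = p * d := by
    have h := (stabilizer G a).card_mul_index
    rw [index_stabilizer_of_transitive, Nat.card_eq_fintype_card (α := α), hα, hG] at h
    refine Nat.eq_of_mul_eq_mul_left (show 0 < p + 1 by omega) ?_
    rw [mul_comm, h, mul_assoc]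
  obtain ⟨x, hx⟩ := exists_prime_orderOf_dvd_card' (G := stabilizer G a) p (hst ▸ dvd_mul_right p d)
  obtain ⟨X, hX⟩ : ∃ X : G, X = (x : G) := ⟨_, rfl⟩
  have hXo : orderOf X = p := by rw [hX, Subgroup.orderOf_coe, hx]
  have hXa : X • a = a := hX ▸ x.2
  have hXp : (X : Equiv.Perm α) ^ p = 1 := by
    rw [← hXo, ← Subgroup.orderOf_coe, pow_orderOf_eq_one]
  -- only `a` is fixed by `X`
  have hXfix : ∀ c : α, X • c = c → c = a := by
    intro c hc
    by_contra hca
    have hs : (X : Equiv.Perm α).support ⊆ (Finset.univ.erase a).erase c := fun y hy => by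
      rw [Equiv.Perm.mem_support] at hy
      exact Finset.mem_erase.2 ⟨fun e => hy (e ▸ hc), Finset.mem_erase.2 ⟨fun e => hy (e ▸ hXa), Finset.mem_univ _⟩⟩
    have h1 := Finset.card_le_card hs
    rw [Finset.card_erase_of_mem (Finset.mem_erase.2 ⟨hca, Finset.mem_univ _⟩),
      Finset.card_erase_of_mem (Finset.mem_univ _), Finset.card_univ, hα] at h1
    have hne : (X : Equiv.Perm α) ≠ 1 := fun e => by
      rw [← Subgroup.orderOf_coe, e, orderOf_one] at hXo
      exact hp.one_lt.ne hXo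
    have hmod := Equiv.Perm.card_compl_support_modEq (p := p) (n := 1) (σ := (X : Equiv.Perm α)) (by rw [pow_one]; exact hXp)
    rw [Finset.card_compl, hα] at hmod
    have h0 : 0 < (X : Equiv.Perm α).support.card := Finset.card_pos.2
      (Finset.nonempty_iff_ne_empty.2 fun e => hne (Equiv.Perm.support_eq_empty_iff.1 e))
    have h2 : (p + 1 - (X : Equiv.Perm α).support.card) % p = (p + 1) % p := hmod
    rw [Nat.add_mod_left, Nat.one_mod_eq_one.2 hp.ne_one] at h2
    have hlt : p + 1 - (X : Equiv.Perm α).support.card ≤ p := by omega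
    rcases Nat.lt_or_ge (p + 1 - (X : Equiv.Perm α).support.card) p with h | h
    · rw [Nat.mod_eq_of_lt h] at h2
      omega
    · rw [show p + 1 - (X : Equiv.Perm α).support.card = p by omega, Nat.mod_self] at h2
      omega
  obtain ⟨F, hF⟩ : ∃ F : Subgroup G, F = Subgroup.zpowers X := ⟨_, rfl⟩
  have hFc : Nat.card F = p := by rw [hF, Nat.card_zpowers, hXo]
  have hFa : F ≤ stabilizer G a := hF ▸ Subgroup.zpowers_le.2 hXa
  have hgen : ∀ u ∈ F, u ≠ 1 → Subgroup.zpowers u = F := by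
    intro u hu hu1
    refine Subgroup.eq_of_le_of_card_ge (Subgroup.zpowers_le.2 hu) (le_of_eq ?_)
    rw [hFc, Nat.card_zpowers]
    have := Subgroup.orderOf_dvd_natCard F hu
    rw [hFc] at this
    exact (((Nat.dvd_prime hp).1 this).resolve_left fun e => hu1 (orderOf_eq_one_iff.1 e)).symm
  have hFfix : ∀ u ∈ F, u ≠ 1 → ∀ c : α, u • c = c → c = a := by
    intro u hu hu1 c hc
    have hm : X ∈ Subgroup.zpowers u := by rw [hgen u hu hu1, hF]; exact Subgroup.mem_zpowers X
    exact hXfix c (Subgroup.zpowers_le.2 (show u ∈ stabilizer G c from hc) hm)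
  have hFn : ∀ g ∈ stabilizer G a, ∀ u ∈ F, g * u * g⁻¹ ∈ F := by
    intro g hg u hu
    by_contra hv
    obtain ⟨v, hvdef⟩ : ∃ v, v = g * u * g⁻¹ := ⟨_, rfl⟩
    rw [← hvdef] at hv
    have hu1 : u ≠ 1 := fun e => hv (by rw [hvdef, e]; simp [F.one_mem])
    have hvo : orderOf v = p := by
      rw [hvdef, ← MulAut.conj_apply, MulEquiv.orderOf_eq, ← Nat.card_zpowers, hgen u hu hu1, hFc]
    have hva : v ∈ stabilizer G a := hvdef ▸ mul_mem (mul_mem hg (hFa hu)) (inv_mem hg)
    have hinj : Function.Injective (fun q : F × Subgroup.zpowers v =>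
        (⟨(q.1 : G) * q.2, mul_mem (hFa q.1.2) (Subgroup.zpowers_le.2 hva q.2.2)⟩ : stabilizer G a)) := by
      intro q r e
      have e' : (q.1 : G) * q.2 = r.1 * r.2 := congrArg Subtype.val e
      have h1 : (r.1 : G)⁻¹ * q.1 = r.2 * (q.2 : G)⁻¹ := by
        rw [inv_mul_eq_iff_eq_mul, ← mul_assoc, eq_mul_inv_iff_mul_eq, e']
      have h2 : (r.1 : G)⁻¹ * q.1 = 1 := by
        by_contra hne
        have hm : (r.1 : G)⁻¹ * q.1 ∈ Subgroup.zpowers v := h1 ▸ mul_mem r.2.2 (inv_mem q.2.2)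
        apply hv
        have h3 : Subgroup.zpowers v = Subgroup.zpowers ((r.1 : G)⁻¹ * q.1) := by
          symm
          refine Subgroup.eq_of_le_of_card_ge (Subgroup.zpowers_le.2 hm) (le_of_eq ?_)
          rw [Nat.card_zpowers, hvo, hgen _ (mul_mem (inv_mem r.1.2) q.1.2) hne, hFc]
        rw [← hgen _ (mul_mem (inv_mem r.1.2) q.1.2) hne, ← h3]
        exact Subgroup.mem_zpowers v
      rw [inv_mul_eq_one] at h2
      exact Prod.ext (Subtype.ext h2.symm) (Subtype.ext (mul_left_cancel ((congrArg (· * (q.2 : G)) h2).trans e')))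
    have := Nat.card_le_card_of_injective _ hinj
    rw [Nat.card_prod, hFc, Nat.card_zpowers, hvo, hst] at this
    exact absurd (Nat.le_of_mul_le_mul_left this hp.pos) (by omega)
  have hne : ∀ y, y ≠ a → ∀ u : F, (u : G) • y ≠ a := fun y hy u e =>
    hy (smul_left_cancel (u : G) (e.trans (show (u : G) • a = a from hFa u.2).symm))
  have hreg : ∀ y z : α, y ≠ a → z ≠ a → ∃! u : F, (u : G) • y = z := by
    intro y z hy hz
    have hb : Function.Bijective (fun u : F => (⟨(u : G) • y, hne y hy u⟩ : {c : α // c ≠ a})) := by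
      refine (Nat.bijective_iff_injective_and_card _).2 ⟨fun u v e => ?_, ?_⟩
      · by_contra huv
        have e' : (u : G) • y = (v : G) • y := congrArg Subtype.val e
        refine hy (hFfix _ (v⁻¹ * u : F).2 (fun h => huv ?_) y ?_)
        · exact Subtype.ext (inv_mul_eq_one.1 h).symm
        · show ((v : G)⁻¹ * u) • y = y
          rw [mul_smul, e', inv_smul_smul]
      · rw [hFc, Nat.card_eq_fintype_card, Fintype.card_subtype_compl, Fintype.card_subtype_eq, hα]
        omega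
    obtain ⟨u, hu⟩ := hb.2 ⟨z, hz⟩
    exact ⟨u, congrArg Subtype.val hu, fun v hv => hb.1 (Subtype.ext (hv.trans (congrArg Subtype.val hu).symm))⟩
  obtain ⟨b, hb⟩ := Fintype.exists_ne_of_one_lt_card (show 1 < Fintype.card α by have := hp.two_le; omega) a
  obtain ⟨g, hg⟩ := MulAction.exists_smul_eq G a b
  have hz : g⁻¹ • a ≠ a := fun e => hb (by rw [inv_smul_eq_iff] at e; rw [← hg, ← e])
  obtain ⟨u, hu, -⟩ := hreg b (g⁻¹ • a) hb hz
  have hcomm : ∀ s ∈ F, ∀ t ∈ F, s * t = t * s := by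
    intro s hs t ht
    rw [hF] at hs ht
    obtain ⟨i, rfl⟩ := hs
    obtain ⟨j, rfl⟩ := ht
    exact (Commute.refl X).zpow_zpow i j
  have hfix : ∀ h : G, h • a = a → h • b = b → ∀ c, c ≠ a → c ≠ b → h • c = c → h = 1 := by
    intro h ha hb' c hca hcb hc
    obtain ⟨v, hv, -⟩ := hreg b c hb hca
    have hv1 : (v : G) ≠ 1 := fun e => hcb (by rw [← hv, e, one_smul])
    have hm := hFn h ha v v.2
    have he : (⟨_, hm⟩ : F) = v := (hreg b c hb hca).unique (show (h * (v : G) * h⁻¹) • b = c by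
      rw [mul_smul, mul_smul, inv_smul_eq_iff.2 hb'.symm, hv, hc]) hv
    have hcm : Commute h (v : G) := mul_inv_eq_iff_eq_mul.1 (congrArg Subtype.val he)
    refine Subtype.ext (Equiv.ext fun y => ?_)
    show h • y = y
    by_cases hya : y = a
    · rw [hya, ha]
    obtain ⟨s, hs, -⟩ := hreg b y hb hya
    have hsm : (s : G) ∈ Subgroup.zpowers (v : G) := by rw [hgen v v.2 hv1]; exact s.2
    obtain ⟨i, hi⟩ := hsm
    have hcs : Commute h (s : G) := hi ▸ hcm.zpow_right i
    rw [← hs, smul_smul, hcs.eq, mul_smul, hb']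
  let D : Data G a b :=
    { F := F, w := g * u, ne := hb.symm, le := hFa, normal := hFn, comm := hcomm, reg := hreg, fix := hfix
      wa := by rw [mul_smul, show (u : G) • a = a from hFa u.2, hg]
      wb := by rw [mul_smul, hu, smul_inv_smul] }
  refine ⟨a, b, D, hFc, ?_, ?_⟩
  · have h := D.card_stab
    rw [hst, show Nat.card D.F = p from hFc] at h
    exact (Nat.eq_of_mul_eq_mul_left hp.pos h).symm
  · intro h hh k hk
    have hX1 : X ≠ 1 := fun e => by rw [e, orderOf_one] at hXo; exact hp.one_lt.ne hXo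
    have hXF : X ∈ F := hF ▸ Subgroup.mem_zpowers X
    obtain ⟨i, hi⟩ : ∃ i : ℤ, X ^ i = h * X * h⁻¹ := Subgroup.mem_zpowers_iff.1 (hF ▸ hFn h (Subgroup.mem_inf.1 hh).1 X hXF)
    obtain ⟨j, hj⟩ : ∃ j : ℤ, X ^ j = k * X * k⁻¹ := Subgroup.mem_zpowers_iff.1 (hF ▸ hFn k (Subgroup.mem_inf.1 hk).1 X hXF)
    have e1 : (h * k) * X * (h * k)⁻¹ = (k * h) * X * (k * h)⁻¹ := by
      rw [show (h * k) * X * (h * k)⁻¹ = h * (k * X * k⁻¹) * h⁻¹ by group,
        show (k * h) * X * (k * h)⁻¹ = k * (h * X * h⁻¹) * k⁻¹ by group, ← hi, ← hj, ← conj_zpow, ← conj_zpow,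
        ← hi, ← hj, ← zpow_mul, ← zpow_mul, mul_comm]
    obtain ⟨n, hn⟩ : ∃ n, n = (k * h)⁻¹ * (h * k) := ⟨_, rfl⟩
    have hnm : n ∈ stabilizer G a ⊓ stabilizer G b := hn ▸ mul_mem (inv_mem (mul_mem hk hh)) (mul_mem hh hk)
    have hnc : Commute n X := by
      have h' := congrArg (fun z => (k * h)⁻¹ * z * (h * k)) e1
      rw [hn]
      show (k * h)⁻¹ * (h * k) * X = X * ((k * h)⁻¹ * (h * k))
      group at h' ⊢
      exact h'
    have hXb : X • b ≠ b := fun e => hb (hXfix b e)
    have := hfix n (Subgroup.mem_inf.1 hnm).1 (Subgroup.mem_inf.1 hnm).2 (X • b)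
      (hne b hb ⟨X, hXF⟩) hXb (by rw [smul_smul, hnc.eq, mul_smul, mem_stabilizer_iff.1 (Subgroup.mem_inf.1 hnm).2])
    rw [hn, inv_mul_eq_one] at this
    exact this.symm

/-- A group of degree `p + 1` with regular normal subgroup is semiaffine. -/
theorem semiaffine_of_regular {p : ℕ} (hp : p.Prime) (hp2 : p ≠ 2) {G : Subgroup (Equiv.Perm α)} {a b : α}
    (D : Data G a b) (hF : Nat.card D.F = p) (K : Subgroup G) (hK : K.Normal)
    (hKc : ∀ x ∈ K, ∀ y ∈ K, x * y = y * x) (hKreg : ∀ x y : α, ∃! k : K, (k : G) • x = y) :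
    ∃ q : ℕ, q.Prime ∧ p + 1 = 2 ^ q ∧
      (Nat.card ↥(stabilizer G a ⊓ stabilizer G b) = 1 ∨ Nat.card ↥(stabilizer G a ⊓ stabilizer G b) = q) ∧
      ∃ e : α ≃ GaloisField 2 q, ∀ g : G,
        (e.symm.trans (((g : Equiv.Perm α)).trans e)) ∈ Cfsg.semiaffineGroup (GaloisField 2 q) := by
  classical
  haveI := Fact.mk hp
  haveI : Fact (Nat.Prime 2) := ⟨Nat.prime_two⟩
  have hα : Fintype.card α = p + 1 := by rw [← D.card_space, hF]
  have hKb : Function.Bijective (fun k : K => (k : G) • a) :=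
    ⟨fun x y e => (hKreg a _).unique e rfl, fun y => (hKreg a y).exists⟩
  have hKcard : Nat.card K = p + 1 := by rw [Nat.card_eq_of_bijective _ hKb, Nat.card_eq_fintype_card, hα]
  have hKeq : ∀ {x y : G}, x ∈ K → y ∈ K → x • a = y • a → x = y := fun hx hy e =>
    congrArg Subtype.val (hKb.1 (a₁ := ⟨_, hx⟩) (a₂ := ⟨_, hy⟩) e)
  -- the point stabiliser is transitive on the non-identity elements
  have hsq : ∀ k ∈ K, k * k = (1 : G) := by
    obtain ⟨i, hi⟩ : ∃ i, p = 2 * i + 1 := hp.eq_two_or_odd'.resolve_left hp2 |> fun ⟨i, h⟩ => ⟨i, h⟩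
    obtain ⟨⟨s, hs⟩, hso⟩ := exists_prime_orderOf_dvd_card' (G := K) 2 (by rw [hKcard, hi]; omega)
    rw [Subgroup.orderOf_mk] at hso
    intro k hk
    by_cases hk1 : k = 1
    · rw [hk1, one_mul]
    have hsa : s • a ≠ a := fun e => by
      rw [hKeq hs K.one_mem (by simpa using e), orderOf_one] at hso; omega
    have hka : k • a ≠ a := fun e => hk1 (hKeq hk K.one_mem (by simpa using e))
    obtain ⟨u, hu, -⟩ := D.reg (s • a) (k • a) hsa hka
    have hc : (u : G) * s * (u : G)⁻¹ = k := hKeq (hK.conj_mem s hs u) hk (by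
      rw [mul_smul, mul_smul, inv_smul_eq_iff.2 (show a = (u : G) • a from (D.le u.2).symm), hu])
    rw [← hc, show (u : G) * s * (u : G)⁻¹ * ((u : G) * s * (u : G)⁻¹) = (u : G) * (s * s) * (u : G)⁻¹ by group,
      show s * s = 1 by rw [← pow_two, ← hso, pow_orderOf_eq_one]]
    group
  obtain ⟨q, hq⟩ : ∃ q, Nat.card K = 2 ^ q := IsPGroup.iff_card.1 fun k => ⟨1, Subtype.ext (by
    show (k : G) ^ 2 ^ 1 = 1
    rw [pow_one, pow_two, hsq k k.2])⟩
  have hpq : p + 1 = 2 ^ q := hKcard.symm.trans hq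
  have hq2 : 2 ≤ q := by
    by_contra h
    have : 2 ^ q ≤ 2 ^ 1 := Nat.pow_le_pow_right two_pos (by omega)
    have := hp.two_le
    omega
  have hqp : q.Prime := (Nat.prime_of_pow_sub_one_prime (a := 2) (by omega) (by
    rw [← hpq, Nat.add_sub_cancel]; exact hp)).2
  -- the field
  let θ : D.F →* MulAut K :=
    { toFun := fun u =>
        { toFun := fun k => ⟨(u : G) * k * (u : G)⁻¹, hK.conj_mem k k.2 u⟩
          invFun := fun k => ⟨(u : G)⁻¹ * k * (u : G), by simpa using hK.conj_mem k k.2 (u : G)⁻¹⟩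
          left_inv := fun k => Subtype.ext (by simp [mul_assoc])
          right_inv := fun k => Subtype.ext (by simp [mul_assoc])
          map_mul' := fun k l => Subtype.ext (by simp [mul_assoc]) }
      map_one' := MulEquiv.ext fun k => Subtype.ext (by simp)
      map_mul' := fun u v => MulEquiv.ext fun k => Subtype.ext (by simp [mul_assoc]) }
  have hfree : ∀ u : D.F, ∀ k : K, k ≠ 1 → θ u k = k → u = 1 := by
    intro u k hk e
    have e' : (u : G) * k = k * u := mul_inv_eq_iff_eq_mul.1 (congrArg Subtype.val e)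
    have hka : (k : G) • a ≠ a := fun h => hk (Subtype.ext (hKeq k.2 K.one_mem (by simpa using h)))
    refine (D.reg _ _ hka hka).unique ?_ (by simp : (((1 : D.F) : G)) • ((k : G) • a) = (k : G) • a)
    rw [smul_smul, e', mul_smul, show (u : G) • a = a from D.le u.2]
  obtain ⟨k₀, hk₀⟩ := hKb.2 b
  have hk₀1 : k₀ ≠ 1 := fun e => D.ne (by
    have h : (k₀ : G) • a = b := hk₀
    rw [e] at h; simpa using h)
  obtain ⟨L, hL, hLf, ψ, χ, hψ, hadd, hone, hχ, hact, hcard⟩ := ZFrame.exists_field (p := 2) (f := q) θ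
    (fun u v => Subtype.ext (D.comm u u.2 v v.2)) hfree (by rw [hKcard, hF]; omega)
    (fun x y => Subtype.ext (hKc x x.2 y y.2)) (fun x => Subtype.ext (by
      show (x : G) ^ 2 = 1
      rw [pow_two, hsq x x.2])) hq k₀ hk₀1
  haveI : Fintype L := Fintype.ofFinite L
  haveI : Fintype D.F := Fintype.ofFinite _
  have hχs : Function.Surjective χ := ((Fintype.bijective_iff_injective_and_card _).2 ⟨hχ, by
    rw [Fintype.card_units, ← Nat.card_eq_fintype_card, hF, ← Nat.card_eq_fintype_card (α := L), hcard, ← hpq]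
    omega⟩).2
  have hψ0 : ψ 0 = 1 := by
    have := hadd 0 0
    rw [add_zero] at this
    exact left_eq_mul.1 this
  obtain ⟨E0, hE0⟩ : ∃ E0 : L ≃ α, ∀ x, E0 x = (ψ x : G) • a :=
    ⟨(Equiv.ofBijective ψ hψ).trans (Equiv.ofBijective _ hKb), fun x => rfl⟩
  -- the field automorphism of an element fixing `a` and `b`
  have hfield : ∀ e : ↥(stabilizer G a ⊓ stabilizer G b), ∃ σ : L ≃+* L,
      ∀ x, (e : G) • E0 x = E0 (σ x) := by
    intro e
    have hea : (e : G) • a = a := (Subgroup.mem_inf.1 e.2).1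
    have heb : (e : G) • b = b := (Subgroup.mem_inf.1 e.2).2
    let σ : L ≃ L := (E0.trans (MulAction.toPerm (e : G))).trans E0.symm
    have hσ : ∀ x, (e : G) • E0 x = E0 (σ x) := fun x => (E0.apply_symm_apply _).symm
    have hconj : ∀ x, (e : G) * ψ x * (e : G)⁻¹ = ψ (σ x) := fun x => hKeq (hK.conj_mem _ (ψ x).2 _) (ψ (σ x)).2 (by
      rw [mul_smul, mul_smul, inv_smul_eq_iff.2 hea.symm, ← hE0, hσ, hE0])
    have hσ1 : σ 1 = 1 := E0.injective (by
      rw [← hσ, hE0, hone, show (k₀ : G) • a = b from hk₀, heb])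
    have hσadd : ∀ x y, σ (x + y) = σ x + σ y := fun x y => hψ.1 (Subtype.ext (by
      rw [← hconj, hadd, hadd, Subgroup.coe_mul, Subgroup.coe_mul, ← hconj, ← hconj]; group))
    have hgen : ∀ x : Lˣ, ∃ c : L, ∀ y, σ ((x : L) * y) = c * σ y := by
      intro x
      obtain ⟨u, hu⟩ := hχs x
      refine ⟨(χ ⟨_, D.normal (e : G) hea u u.2⟩ : L), fun y => hψ.1 (Subtype.ext ?_)⟩
      rw [← hconj, ← hu, ← hact, ← hact]
      show (e : G) * ((u : G) * ψ y * (u : G)⁻¹) * (e : G)⁻¹ =
        (e : G) * u * (e : G)⁻¹ * ψ (σ y) * ((e : G) * u * (e : G)⁻¹)⁻¹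
      rw [← hconj]
      group
    have hσmul : ∀ x y, σ (x * y) = σ x * σ y := by
      intro x y
      have hσ0 : σ 0 = 0 := by
        have h := hσadd 0 0
        rw [add_zero] at h
        exact (add_eq_left.1 h.symm)
      by_cases hx : x = 0
      · rw [hx, zero_mul, hσ0, zero_mul]
      obtain ⟨c, hc⟩ := hgen (Units.mk0 x hx)
      have h1 := hc 1
      rw [Units.val_mk0, mul_one, hσ1, mul_one] at h1
      rw [h1]
      exact hc y
    exact ⟨{ σ with map_mul' := hσmul, map_add' := hσadd }, hσ⟩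
  choose σ hσ using hfield
  haveI : Fintype (GaloisField 2 q) := Fintype.ofFinite _
  obtain ⟨r⟩ : Nonempty (L ≃+* GaloisField 2 q) := ⟨FiniteField.ringEquivOfCardEq (by
    rw [← Nat.card_eq_fintype_card, hcard, ← Nat.card_eq_fintype_card, GaloisField.card 2 q (by omega)])⟩
  refine ⟨q, hqp, hpq, ?_, E0.symm.trans r.toEquiv, fun g => ?_⟩
  · -- a group of automorphisms of a field of order `2 ^ q`
    let τ : ↥(stabilizer G a ⊓ stabilizer G b) → (GaloisField 2 q ≃ₐ[ZMod 2] GaloisField 2 q) := fun e =>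
      AlgEquiv.ofRingEquiv (f := (r.symm.trans (σ e)).trans r) fun z => by
        obtain ⟨n, rfl⟩ : ∃ n : ℕ, (n : ZMod 2) = z := ⟨z.val, ZMod.natCast_zmod_val z⟩
        simp
    have hτ : ∀ e z, τ e z = r (σ e (r.symm z)) := fun _ _ => rfl
    let T : ↥(stabilizer G a ⊓ stabilizer G b) →* (GaloisField 2 q ≃ₐ[ZMod 2] GaloisField 2 q) :=
      MonoidHom.mk' τ fun e e' => AlgEquiv.ext fun z => by
        rw [AlgEquiv.mul_apply, hτ, hτ, hτ, RingEquiv.symm_apply_apply]
        congr 1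
        apply E0.injective
        rw [← hσ, Subgroup.coe_mul, mul_smul, hσ e', hσ e]
    have hT : Function.Injective T := fun e e' h => Subtype.ext (eq_of_smul_eq_smul (α := α) fun c => by
      obtain ⟨x, rfl⟩ := E0.surjective c
      rw [hσ, hσ]
      congr 1
      have := congrArg (fun f : GaloisField 2 q ≃ₐ[ZMod 2] GaloisField 2 q => r.symm (f (r x))) h
      simpa [T, hτ] using this)
    have hdvd := Subgroup.card_dvd_of_injective T hT
    rw [IsGalois.card_aut_eq_finrank, GaloisField.finrank 2 (by omega)] at hdvd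
    exact (Nat.dvd_prime hqp).1 hdvd
  · obtain ⟨y, hy⟩ := E0.surjective (g • a)
    have hga : ((ψ y : G))⁻¹ * g ∈ stabilizer G a := by
      rw [mem_stabilizer_iff, mul_smul, inv_smul_eq_iff, ← hE0, hy]
    obtain ⟨⟨u, e⟩, hue⟩ := D.stabEquiv.surjective ⟨_, hga⟩
    have hg : g = (ψ y : G) * ((u : G) * e) := by
      have h' : (u : G) * e = ((ψ y : G))⁻¹ * g := congrArg Subtype.val hue
      rw [h', mul_inv_cancel_left]
    have hform : ∀ x, g • E0 x = E0 (y + (χ u : L) * σ e x) := by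
      intro x
      rw [hg, mul_smul, mul_smul, hσ, hE0, hE0, hadd, Subgroup.coe_mul, mul_smul, ← hact]
      congr 1
      show (u : G) • _ = ((u : G) * ψ (σ e x) * (u : G)⁻¹) • a
      rw [mul_smul, mul_smul, inv_smul_eq_iff.2 (show a = (u : G) • a from (D.le u.2).symm)]
    refine ⟨Units.map (r : L →* GaloisField 2 q) (χ u), r y, (r.symm.trans (σ e)).trans r, fun z => ?_⟩
    show r (E0.symm ((g : Equiv.Perm α) (E0 (r.symm z)))) = _
    have h := hform (r.symm z)
    rw [show (g : Equiv.Perm α) (E0 (r.symm z)) = g • E0 (r.symm z) from rfl, h, Equiv.symm_apply_apply]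
    simp only [map_add, map_mul, Units.coe_map, MonoidHom.coe_coe, RingEquiv.coe_trans, Function.comp_apply]
    exact add_comm _ _

end CfsgLib.Perm.AbKernel
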