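import Cfsg.Agent.Lib.Char.ZassenhausOdd

/-!
# Inversion of two-point stabilisers of odd order without normal `q`-complements
-/

set_option autoImplicit false
set_option linter.unusedSectionVars false
set_option linter.style.haveILetI false

namespace CfsgLib.Perm.AbKernel

open MulAction Cfsg CfsgLib.Char

/-- An injective endomorphism of a Z-group of odd order that inverts the abelianisation is inversion. -/
theorem inversion_of_key {E : Type*} [Group E] [Finite E] [IsZGroup E] (hodd : Odd (Nat.card E)) (σ : E →* E)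
    (hσ : Function.Injective σ) (hkey : ∀ m, m * σ m ∈ commutator E) :
    (∀ x y : E, x * y = y * x) ∧ ∀ u, σ u = u⁻¹ := by
  classical
  haveI : IsCyclic (commutator E) := IsZGroup.isCyclic_commutator E
  have hDn : (commutator E).Normal := inferInstance
  have hDc : ∀ x ∈ commutator E, ∀ y ∈ commutator E, x * y = y * x := fun x hx y hy => by
    letI := IsCyclic.commGroup (α := commutator E)
    exact congrArg Subtype.val (mul_comm (⟨x, hx⟩ : commutator E) ⟨y, hy⟩)
  obtain ⟨⟨d0, hd0⟩, hgen⟩ := IsCyclic.exists_generator (α := commutator E)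
  have hgen' : ∀ x ∈ commutator E, ∃ i : ℤ, d0 ^ i = x := fun x hx => by
    obtain ⟨i, hi⟩ := hgen ⟨x, hx⟩
    exact ⟨i, congrArg Subtype.val hi⟩
  have hcentral : ∀ m : E, ∀ d ∈ commutator E, (m * m) * d = d * (m * m) := by
    intro m d hd
    obtain ⟨k, hk⟩ := hgen' _ (hDn.conj_mem d0 hd0 m)
    have hpow : ∀ x ∈ commutator E, m * x * m⁻¹ = x ^ k := by
      intro x hx
      obtain ⟨i, rfl⟩ := hgen' x hx
      rw [← conj_zpow, ← hk, ← zpow_mul, ← zpow_mul, mul_comm]
    have hσD : ∀ x ∈ commutator E, σ x ∈ commutator E := by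
      intro x hx
      have h := (commutator E).mul_mem ((commutator E).inv_mem hx) (hkey x)
      rwa [inv_mul_cancel_left] at h
    obtain ⟨⟨e, he⟩, rfl⟩ : ∃ e : commutator E, σ e.1 = d := by
      let τ : commutator E → commutator E := fun x => ⟨σ x.1, hσD x.1 x.2⟩
      have hτ : Function.Injective τ := fun x y h => Subtype.ext (hσ (congrArg Subtype.val h))
      obtain ⟨x, hx⟩ := Finite.surjective_of_injective hτ ⟨d, hd⟩
      exact ⟨x, congrArg Subtype.val hx⟩
    set c := m * σ m with hcdef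
    have hσm : σ m = m⁻¹ * c := by rw [hcdef, inv_mul_cancel_left]
    have hcd : c * σ e * c⁻¹ = σ e :=
      mul_inv_eq_iff_eq_mul.2 (hDc _ (hkey m) _ (hσD e he))
    have h1 : σ (m * e * m⁻¹) = m⁻¹ * σ e * m := by
      rw [map_mul, map_mul, map_inv, hσm]
      calc m⁻¹ * c * σ e * (m⁻¹ * c)⁻¹ = m⁻¹ * (c * σ e * c⁻¹) * m := by group
        _ = _ := by rw [hcd]
    have h2 : σ (m * e * m⁻¹) = m * σ e * m⁻¹ := by
      rw [hpow e he, map_zpow, hpow _ (hσD e he)]
    calc (m * m) * σ e = m * (m * σ e * m⁻¹) * m := by group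
      _ = m * (m⁻¹ * σ e * m) * m := by rw [← h1, h2]
      _ = _ := by group
  have hsq : ∀ m : E, ∃ n : E, n * n = m := by
    intro m
    obtain ⟨k, hk⟩ := exists_pow_eq_self_of_coprime (x := m) (n := 2)
      ((Nat.prime_two.coprime_iff_not_dvd).2 fun h => Nat.not_even_iff_odd.2 hodd
        (even_iff_two_dvd.2 (h.trans (orderOf_dvd_natCard m))))
    exact ⟨m ^ k, by rw [← pow_add, ← two_mul, pow_mul, hk]⟩
  have hker : (Abelianization.of : E →* Abelianization E).ker ≤ Subgroup.center E := by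
    rw [Abelianization.ker_of]
    intro d hd
    rw [Subgroup.mem_center_iff]
    intro g
    obtain ⟨n, rfl⟩ := hsq g
    exact hcentral n d hd
  have hab' : ∀ x y : E, x * y = y * x :=
    (MonoidHom.isMulCommutative_of_isCyclic_of_ker_le_center _ hker).is_comm.comm
  refine ⟨hab', fun u => ?_⟩
  have hbot : commutator E = ⊥ := by
    rw [_root_.commutator_def, Subgroup.commutator_eq_bot_iff_le_centralizer]
    exact fun x _ y _ => hab' y x
  have h := hkey u
  rw [hbot, Subgroup.mem_bot] at h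
  exact (inv_eq_of_mul_eq_one_right h).symm

/-- An involutive automorphism of a cyclic group of odd prime power order is trivial or inversion. -/
theorem trivial_or_inverts {Q : Type*} [Group Q] [Finite Q] [IsCyclic Q] {q k : ℕ} (hq : q.Prime) (hq2 : q ≠ 2)
    (hQ : Nat.card Q = q ^ k) (σ : Q →* Q) (hσ : ∀ x, σ (σ x) = x) :
    (∀ x, σ x = x) ∨ ∀ x, σ x = x⁻¹ := by
  obtain ⟨n, hn⟩ := σ.map_cyclic
  obtain ⟨x, hx⟩ := IsCyclic.exists_generator (α := Q)
  have ho : orderOf x = q ^ k := by rw [orderOf_eq_card_of_forall_mem_zpowers hx, hQ]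
  have h1 : x ^ (n * n - 1) = 1 := by
    rw [zpow_sub, zpow_one, zpow_mul, ← hn, ← hn, hσ, mul_inv_cancel]
  rw [← orderOf_dvd_iff_zpow_eq_one, ho, show n * n - 1 = (n - 1) * (n + 1) by ring, Nat.cast_pow] at h1
  have hpr : Prime (q : ℤ) := Nat.prime_iff_prime_int.1 hq
  have key : ∀ (y : Q) (j : ℤ), ((q : ℤ) ^ k ∣ j) → y ^ j = 1 := fun y j hj => by
    rw [← orderOf_dvd_iff_zpow_eq_one]
    exact (Int.natCast_dvd_natCast.2 (hQ ▸ orderOf_dvd_natCard y)).trans (by rw [Nat.cast_pow]; exact hj)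
  by_cases hd : (q : ℤ) ∣ n - 1
  · left
    have hnd : ¬ (q : ℤ) ∣ n + 1 := fun h => by
      have h2 := dvd_sub h hd
      rw [show n + 1 - (n - 1) = ((2 : ℕ) : ℤ) by push_cast; ring, Int.natCast_dvd_natCast] at h2
      exact hq2 ((Nat.prime_dvd_prime_iff_eq hq Nat.prime_two).1 h2)
    intro y
    have h := key y _ (hpr.pow_dvd_of_dvd_mul_right k hnd h1)
    rw [zpow_sub, zpow_one, mul_inv_eq_one] at h
    rw [hn, h]
  · right
    intro y
    have h := key y _ (hpr.pow_dvd_of_dvd_mul_left k hd h1)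
    rw [zpow_add, zpow_one, mul_eq_one_iff_eq_inv] at h
    rw [hn, h]

variable {G Ω : Type*} [Group G] [Finite G] [MulAction G Ω] [Fintype Ω]

/-- The conclusion of inversion when no normal subgroup has full `q`-power index for `q` dividing `|E|`. -/
theorem inversion_of_no_complement (hZ : IsZassenhausGroup G Ω) {a b : Ω} (hab : a ≠ b)
    (hodd : Odd (Nat.card ↥(stabilizer G a ⊓ stabilizer G b)))
    (hnil : ∀ q : ℕ, q.Prime → q ∣ Nat.card ↥(stabilizer G a ⊓ stabilizer G b) →
      ¬ ∃ N : Subgroup G, N.Normal ∧ N.index = q ^ (Nat.card G).factorization q) :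
    IsCyclic ↥(stabilizer G a ⊓ stabilizer G b) ∧
    Subgroup.centralizer ((stabilizer G a ⊓ stabilizer G b : Subgroup G) : Set G) = stabilizer G a ⊓ stabilizer G b ∧
    ∀ s : G, s • a = b → s • b = a → ∀ h ∈ stabilizer G a ⊓ stabilizer G b, s * h * s⁻¹ = h⁻¹ := by
  classical
  obtain ⟨H, hHa, hHcard, hHfix⟩ := ZassenhausOdd.exists_point_kernel hZ hab
  have h3 := zassenhaus_three_le hZ
  have hne : H ≠ ⊥ := fun h => by rw [h, Subgroup.card_bot] at hHcard; omega
  have hfp := ZassenhausOdd.isFpfOn_kernel hab hZ hHa hHfix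
  have hEN : stabilizer G a ⊓ stabilizer G b ≤ Subgroup.normalizer (H : Set G) :=
    inf_le_left.trans (point_kernel_ti hZ a H hHa hHcard hHfix).2.ge
  have hZG : IsZGroup ↥(stabilizer G a ⊓ stabilizer G b) := by
    refine ⟨fun q hq Q => ?_⟩
    haveI := Fact.mk hq
    refine (hfp.sylow_cyclic_or_quaternion hEN hne Q).resolve_right ?_
    rintro ⟨rfl, n, ⟨e⟩⟩
    haveI : NeZero ((2 : ℕ) ^ n) := ⟨by positivity⟩
    have h4 := Nat.card_congr e.toEquiv
    rw [Nat.card_eq_fintype_card (α := QuaternionGroup (2 ^ n)), QuaternionGroup.card] at h4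
    exact Nat.not_even_iff_odd.2 hodd (even_iff_two_dvd.2
      ((dvd_mul_of_dvd_left (by norm_num : 2 ∣ 4) _).trans
        (h4 ▸ Subgroup.card_subgroup_dvd_card (Q : Subgroup ↥(stabilizer G a ⊓ stabilizer G b)))))
  haveI := hZG
  have hGc := ZassenhausOdd.card_group hZ hab
  have hdmod : Nat.card H % Nat.card ↥(stabilizer G a ⊓ stabilizer G b) =
      1 % Nat.card ↥(stabilizer G a ⊓ stabilizer G b) := hfp.card_mod hEN
  set E := stabilizer G a ⊓ stabilizer G b with hE
  -- swap elements normalise the two-point stabiliser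
  have hmem : ∀ (w : G), w • a = b → w • b = a → ∀ u : E, w⁻¹ * (u : G) * w ∈ E := fun w hwa hwb u =>
    (Subgroup.mem_normalizer_iff''.1 ((two_point_normalizer hZ hab w).2 (Or.inr ⟨hwa, hwb⟩)) u).1 u.2
  have hinv : ∀ w : G, ∀ hwa : w • a = b, ∀ hwb : w • b = a,
      (∀ x y : E, x * y = y * x) ∧ ∀ u : E, w⁻¹ * (u : G) * w = ((u⁻¹ : E) : G) := by
    intro w hwa hwb
    let σ : E →* E := MonoidHom.mk' (fun u => ⟨w⁻¹ * (u : G) * w, hmem w hwa hwb u⟩)
      fun u v => Subtype.ext (by simp only [Subgroup.coe_mul]; group)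
    have hσ : Function.Injective σ := fun u v h =>
      Subtype.ext (mul_left_cancel (mul_right_cancel (congrArg Subtype.val h)))
    let f : E →* Abelianization E := Abelianization.of * Abelianization.of.comp σ
    have hf : ∀ m, f m = Abelianization.of (m * σ m) := fun m => (map_mul _ _ _).symm
    have hsyl : ∀ (q : ℕ) [Fact q.Prime] (Q : Sylow q E), (Q : Subgroup E) ≤ f.ker := by
      intro q hqf Q
      haveI : IsCyclic Q := IsZGroup.isZGroup q hqf.out Q
      intro x hx
      rw [MonoidHom.mem_ker, hf]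
      rcases Sylow.normalizer_le_centralizer_or_le_commutator Q with hNC | hle
      swap
      · have h1 : Abelianization.of x = 1 := by rw [← MonoidHom.mem_ker, Abelianization.ker_of]; exact hle hx
        have h2 : Abelianization.of (σ x) = 1 := by
          rw [← MonoidHom.comp_apply, ← MonoidHom.mem_ker]
          exact Abelianization.commutator_subset_ker _ (hle hx)
        rw [map_mul, h1, h2, one_mul]
      by_cases hx1 : x = 1
      · rw [hx1, map_one, one_mul, map_one]
      have hqd : q ∣ Nat.card E := by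
        obtain ⟨k, hk⟩ := (IsPGroup.iff_orderOf.1 Q.2) ⟨x, hx⟩
        rw [Subgroup.orderOf_mk] at hk
        rcases Nat.eq_zero_or_pos k with rfl | h
        · exact absurd (orderOf_eq_one_iff.1 hk) hx1
        · exact ((dvd_pow_self q h.ne').trans hk.symm.dvd).trans (orderOf_dvd_natCard x)
      have hq2 : q ≠ 2 := fun e => Nat.not_even_iff_odd.2 hodd (even_iff_two_dvd.2 (e ▸ hqd))
      -- the Sylow subgroup is one of `G`
      obtain ⟨Q₀, hQ₀⟩ : ∃ Q₀ : Subgroup G, Q₀ = (Q : Subgroup E).map E.subtype := ⟨_, rfl⟩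
      have hQ₀c : Nat.card Q₀ = q ^ (Nat.card G).factorization q := by
        rw [hQ₀, Subgroup.card_map_of_injective E.subtype_injective, Q.card_eq_multiplicity]
        congr 1
        rw [hGc, show ZassenhausOdd.pairStab G a b = E from rfl, Nat.factorization_mul, Nat.factorization_mul, Finsupp.add_apply, Finsupp.add_apply]
        · have hH : Fintype.card Ω - 1 = Nat.card H := by omega
          have hm : Nat.card H % q = 1 % q := by
            rw [← Nat.mod_mod_of_dvd (Nat.card H) hqd, hdmod, Nat.mod_mod_of_dvd 1 hqd]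
          rw [Nat.one_mod_eq_one.2 hqf.out.ne_one] at hm
          have h1 : ¬ q ∣ Fintype.card Ω - 1 := fun h => by
            rw [hH, Nat.dvd_iff_mod_eq_zero] at h; omega
          have h2 : ¬ q ∣ Fintype.card Ω := fun h => by
            rw [show Fintype.card Ω = Nat.card H + 1 by omega, Nat.dvd_iff_mod_eq_zero, Nat.add_mod, hm] at h
            have hq3 : 3 ≤ q := by have := hqf.out.two_le; omega
            rw [Nat.one_mod_eq_one.2 hqf.out.ne_one, Nat.mod_eq_of_lt (by omega)] at h
            omega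
          rw [Nat.factorization_eq_zero_of_not_dvd h1, Nat.factorization_eq_zero_of_not_dvd h2]
          omega
        all_goals first | omega | exact Nat.card_pos.ne' | exact Nat.mul_ne_zero (by omega) (by omega)
      let P : Sylow q G := Sylow.ofCard Q₀ hQ₀c
      have hP : (P : Subgroup G) = Q₀ := rfl
      haveI : IsCyclic Q₀ := hQ₀ ▸ isCyclic_of_surjective _
        ((Q : Subgroup E).equivMapOfInjective E.subtype E.subtype_injective).surjective
      have hnc : ¬ Subgroup.normalizer (Q₀ : Set G) ≤ Subgroup.centralizer (Q₀ : Set G) := by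
        intro hle
        refine hnil q hqf.out hqd ⟨(MonoidHom.transferSylow P hle).ker, inferInstance, ?_⟩
        rw [(MonoidHom.ker_transferSylow_isComplement' P hle).symm.index_eq_card]
        exact hQ₀c
      obtain ⟨g, hgN, hgC⟩ := SetLike.not_le_iff_exists.1 hnc
      have hxQ₀ : (x : G) ∈ Q₀ := hQ₀ ▸ Subgroup.mem_map_of_mem _ hx
      have hQ₀E : Q₀ ≤ E := hQ₀ ▸ Subgroup.map_subtype_le _
      have hEC : ∀ e : E, (e : G) ∈ Subgroup.normalizer (Q₀ : Set G) → ∀ y ∈ Q₀, (e : G) * y = y * e := by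
        intro e he y hy
        obtain ⟨y', hy', rfl⟩ := (hQ₀ ▸ hy : y ∈ (Q : Subgroup E).map E.subtype)
        have heN : e ∈ Subgroup.normalizer ((Q : Subgroup E) : Set E) := by
          rw [Subgroup.mem_normalizer_iff]
          intro z
          have := Subgroup.mem_normalizer_iff.1 he (z : G)
          rw [hQ₀] at this
          have hz : ∀ v : E, (v : G) ∈ (Q : Subgroup E).map E.subtype ↔ v ∈ (Q : Subgroup E) := fun v =>
            Subgroup.mem_map_iff_mem E.subtype_injective
          rw [hz] at this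
          rw [show (e : G) * z * (e : G)⁻¹ = ((e * z * e⁻¹ : E) : G) from rfl, hz] at this
          exact this
        exact (congrArg Subtype.val (Subgroup.mem_centralizer_iff.1 (hNC heN) y' hy')).symm
      have hgsw : g • a = b ∧ g • b = a := by
        have hga : (g * (x : G) * g⁻¹) ∈ E := hQ₀E ((Subgroup.mem_normalizer_iff.1 hgN _).1 hxQ₀)
        have hgx1 : (x : G) ≠ 1 := fun e => hx1 (Subtype.ext e)
        have hfixx : ∀ c : Ω, (g * (x : G) * g⁻¹) • c = c → (x : G) • (g⁻¹ • c) = g⁻¹ • c := fun c h => by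
          rwa [mul_smul, mul_smul, smul_eq_iff_eq_inv_smul] at h
        have h1 := fixed_eq_or hZ hgx1 hab (Subgroup.mem_inf.1 x.2).1 (Subgroup.mem_inf.1 x.2).2
          (hfixx a (Subgroup.mem_inf.1 hga).1)
        have h2 := fixed_eq_or hZ hgx1 hab (Subgroup.mem_inf.1 x.2).1 (Subgroup.mem_inf.1 x.2).2
          (hfixx b (Subgroup.mem_inf.1 hga).2)
        have hne' : g⁻¹ • a ≠ g⁻¹ • b := fun h => hab (smul_left_cancel g⁻¹ h)
        rcases h1 with h1 | h1 <;> rcases h2 with h2 | h2
        · exact absurd (h1.trans h2.symm) hne'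
        · exfalso
          have hgE : g ∈ E := Subgroup.mem_inf.2 ⟨(inv_smul_eq_iff.1 h1).symm, (inv_smul_eq_iff.1 h2).symm⟩
          exact hgC (Subgroup.mem_centralizer_iff.2 fun y hy => (hEC ⟨g, hgE⟩ hgN y hy).symm)
        · exact ⟨(inv_smul_eq_iff.1 h2).symm, (inv_smul_eq_iff.1 h1).symm⟩
        · exact absurd (h1.trans h2.symm) hne'
      -- conjugation by `g` on the cyclic group
      let τ : Q₀ →* Q₀ := MonoidHom.mk' (fun y => ⟨g * (y : G) * g⁻¹, (Subgroup.mem_normalizer_iff.1 hgN _).1 y.2⟩)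
        fun y z => Subtype.ext (by simp only [Subgroup.coe_mul]; group)
      have hg2 : g * g ∈ E := Subgroup.mem_inf.2 ⟨by
        show (g * g) • a = a
        rw [mul_smul, hgsw.1, hgsw.2], by
        show (g * g) • b = b
        rw [mul_smul, hgsw.2, hgsw.1]⟩
      rcases trivial_or_inverts hqf.out hq2 hQ₀c τ (fun y => Subtype.ext (by
          show g * (g * (y : G) * g⁻¹) * g⁻¹ = y
          rw [show g * (g * (y : G) * g⁻¹) * g⁻¹ = (g * g) * y * (g * g)⁻¹ by group,
            hEC ⟨_, hg2⟩ (mul_mem hgN hgN) y y.2, mul_inv_cancel_right])) with htriv | hinvg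
      · exact absurd (Subgroup.mem_centralizer_iff.2 fun y hy =>
          (mul_inv_eq_iff_eq_mul.1 (congrArg Subtype.val (htriv ⟨y, hy⟩) :)).symm) hgC
      · have hgx : g * (x : G) * g⁻¹ = (x : G)⁻¹ := congrArg Subtype.val (hinvg ⟨_, hxQ₀⟩)
        obtain ⟨e₀, he₀⟩ : ∃ e₀ : E, (e₀ : G) = g * w := ⟨⟨g * w, Subgroup.mem_inf.2 ⟨by
            show (g * w) • a = a
            rw [mul_smul, hwa, hgsw.2], by
            show (g * w) • b = b
            rw [mul_smul, hwb, hgsw.1]⟩⟩, rfl⟩
        have hσx : e₀ * σ x * e₀⁻¹ = x⁻¹ := Subtype.ext (by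
          show (e₀ : G) * (w⁻¹ * (x : G) * w) * (e₀ : G)⁻¹ = (x : G)⁻¹
          rw [he₀, ← hgx]; group)
        have h := congrArg Abelianization.of hσx
        rw [map_mul, map_mul, map_inv, map_inv, mul_right_comm, mul_inv_cancel, one_mul] at h
        rw [map_mul, h, mul_inv_cancel]
    have htop : f.ker = ⊤ := by
      refine Subgroup.eq_top_of_card_eq _ (Nat.dvd_antisymm (Subgroup.card_subgroup_dvd_card _) ?_)
      rw [← Nat.factorization_prime_le_iff_dvd Nat.card_pos.ne' Nat.card_pos.ne']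
      intro q hq
      haveI := Fact.mk hq
      obtain ⟨Q⟩ : Nonempty (Sylow q E) := inferInstance
      rw [← hq.pow_dvd_iff_le_factorization Nat.card_pos.ne', ← Q.card_eq_multiplicity]
      exact Subgroup.card_dvd_of_le (hsyl q Q)
    obtain ⟨hc, hu⟩ := inversion_of_key hodd σ hσ fun m => by
      rw [← Abelianization.ker_of, MonoidHom.mem_ker, ← hf, ← MonoidHom.mem_ker, htop]
      exact Subgroup.mem_top _
    exact ⟨hc, fun u => congrArg Subtype.val (hu u)⟩
  obtain ⟨w, hwa, hwb⟩ := exists_map_pair hZ hab hab.symm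
  obtain ⟨hc, hwinv⟩ := hinv w hwa hwb
  refine ⟨?_, ?_, fun s hsa hsb h hh => ?_⟩
  · haveI : IsMulCommutative E := ⟨⟨hc⟩⟩
    exact hfp.isCyclic hEN hne
  · refine le_antisymm (fun g hg => ?_) (fun e he => Subgroup.mem_centralizer_iff.2 fun y hy =>
      congrArg Subtype.val (hc ⟨y, hy⟩ ⟨e, he⟩))
    have hgN : g ∈ Subgroup.normalizer (E : Set G) := Subgroup.centralizer_le_normalizer _ hg
    rcases (two_point_normalizer hZ hab g).1 hgN with ⟨ha, hb⟩ | ⟨ha, hb⟩
    · exact Subgroup.mem_inf.2 ⟨ha, hb⟩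
    · exfalso
      obtain ⟨x, hx, hx1⟩ := zassenhaus_two_point_ne_bot hZ hab
      have h1 : g⁻¹ * x * g = x⁻¹ := ((hinv g ha hb).2 ⟨x, hx⟩).trans rfl
      rw [mul_assoc, Subgroup.mem_centralizer_iff.1 hg x hx, inv_mul_cancel_left] at h1
      have ho : orderOf x = 2 := orderOf_eq_prime (by rw [pow_two]; nth_rewrite 1 [h1]; exact inv_mul_cancel x) hx1
      exact Nat.not_even_iff_odd.2 hodd (even_iff_two_dvd.2 (ho.symm.dvd.trans (Subgroup.orderOf_dvd_natCard _ hx)))
  · have h1 : s⁻¹ * h⁻¹ * s = h := ((hinv s hsa hsb).2 ⟨h⁻¹, inv_mem hh⟩).trans (inv_inv h)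
    calc s * h * s⁻¹ = s * (s⁻¹ * h⁻¹ * s) * s⁻¹ := by rw [h1]
      _ = h⁻¹ := by group

end CfsgLib.Perm.AbKernel
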