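import Mathlib

/-!
# Integral solutions of `V Vᵀ = I + h J`

Integer matrices with Gram matrix `I + h J` none of whose columns is constant are square, and every
column sum has square `t h + 1`.
-/

set_option autoImplicit false
set_option linter.unusedSectionVars false

namespace CfsgLib.Perm.AbKernel

variable {ι R : Type*} [Fintype ι] [Fintype R]

/-- A non-constant integer vector has at least `2 (t - 1)` units of pairwise squared differences. -/
theorem two_mul_le_sum_diff_sq (x : ι → ℤ) {i₀ j₀ : ι} (hne : x i₀ ≠ x j₀) :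
    2 * ((Fintype.card ι : ℤ) - 1) ≤ ∑ i, ∑ j, (x i - x j) ^ 2 := by
  classical
  obtain ⟨A, hA⟩ : ∃ A : Finset ι, A = Finset.univ.filter (fun i => x i = x i₀) := ⟨_, rfl⟩
  have hmem : ∀ i, i ∈ A ↔ x i = x i₀ := fun i => by rw [hA, Finset.mem_filter]; simp
  have h1 : 1 ≤ A.card := Finset.card_pos.2 ⟨i₀, (hmem _).2 rfl⟩
  have h2 : 1 ≤ Aᶜ.card := Finset.card_pos.2 ⟨j₀, Finset.mem_compl.2 fun h => hne ((hmem _).1 h).symm⟩
  have hc : A.card + Aᶜ.card = Fintype.card ι := Finset.card_add_card_compl A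
  have hcross : ∀ i j, ¬ (i ∈ A ↔ j ∈ A) → (1 : ℤ) ≤ (x i - x j) ^ 2 := by
    intro i j h
    have hne' : x i - x j ≠ 0 := fun e => h (by
      rw [hmem, hmem, sub_eq_zero.1 e])
    rw [← one_pow 2, sq_le_sq, abs_one]
    exact Int.one_le_abs hne'
  have hrow : ∀ S T : Finset ι, (∀ i ∈ S, ∀ j ∈ T, ¬ (i ∈ A ↔ j ∈ A)) →
      (S.card : ℤ) * T.card ≤ ∑ i ∈ S, ∑ j, (x i - x j) ^ 2 := by
    intro S T h
    calc (S.card : ℤ) * T.card = ∑ _i ∈ S, ∑ _j ∈ T, (1 : ℤ) := by simp
      _ ≤ ∑ i ∈ S, ∑ j ∈ T, (x i - x j) ^ 2 :=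
        Finset.sum_le_sum fun i hi => Finset.sum_le_sum fun j hj => hcross i j (h i hi j hj)
      _ ≤ _ := Finset.sum_le_sum fun i _ =>
        Finset.sum_le_sum_of_subset_of_nonneg (Finset.subset_univ T) fun j _ _ => sq_nonneg _
  have hA1 := hrow A Aᶜ fun i hi j hj h => Finset.mem_compl.1 hj (h.1 hi)
  have hA2 := hrow Aᶜ A fun i hi j hj h => Finset.mem_compl.1 hi (h.2 hj)
  rw [← Finset.sum_add_sum_compl A]
  have h3 : (A.card : ℤ) + Aᶜ.card = Fintype.card ι := by exact_mod_cast hc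
  have h1' : (1 : ℤ) ≤ A.card := by exact_mod_cast h1
  have h2' : (1 : ℤ) ≤ Aᶜ.card := by exact_mod_cast h2
  nlinarith [mul_nonneg (sub_nonneg.2 h1') (sub_nonneg.2 h2')]

/-- The column sums of an integral square root of `I + h J`. -/
theorem gram_column_sum [DecidableEq ι] (v : ι → R → ℤ) (t h : ℕ) (ht : Fintype.card ι = t) (ht2 : 2 ≤ t)
    (hgram : ∀ i j, ∑ r, v i r * v j r = (if i = j then 1 else 0) + (h : ℤ))
    (hnc : ∀ r, ∃ i j, v i r ≠ v j r) (r : R) : (∑ i, v i r) ^ 2 = (t * h + 1 : ℤ) := by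
  classical
  obtain ⟨k, hk⟩ : ∃ k : R → ℤ, k = fun r => ∑ i, v i r := ⟨_, rfl⟩
  obtain ⟨S, hS⟩ : ∃ S : R → ℤ, S = fun r => ∑ i, ∑ j, (v i r - v j r) ^ 2 := ⟨_, rfl⟩
  have hSlow : ∀ r, 2 * ((t : ℤ) - 1) ≤ S r := fun r => by
    obtain ⟨i, j, hij⟩ := hnc r
    rw [hS, ← ht]
    exact two_mul_le_sum_diff_sq (fun i => v i r) hij
  have hSexp : ∀ r, S r = 2 * t * ∑ i, v i r ^ 2 - 2 * k r ^ 2 := by
    intro r
    rw [hS, hk]
    simp only
    have : ∀ i j, (v i r - v j r) ^ 2 = v i r ^ 2 + v j r ^ 2 - 2 * (v i r * v j r) := fun i j => by ring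
    simp only [this, Finset.sum_sub_distrib, Finset.sum_add_distrib, Finset.sum_const, Finset.card_univ, ht,
      nsmul_eq_mul, ← Finset.mul_sum, ← Finset.sum_mul]
    ring
  have hStot : ∑ r, S r = 2 * (t : ℤ) * ((t : ℤ) - 1) := by
    rw [hS]
    simp only
    rw [Finset.sum_comm]
    simp only [fun i => Finset.sum_comm (γ := R) (s := Finset.univ) (t := Finset.univ)
      (f := fun r j => (v i r - v j r) ^ 2)]
    have h2 : ∀ i j, ∑ r, (v i r - v j r) ^ 2 = 2 - 2 * (if i = j then (1 : ℤ) else 0) := by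
      intro i j
      have : ∀ r, (v i r - v j r) ^ 2 = v i r * v i r + v j r * v j r - 2 * (v i r * v j r) :=
        fun r => by ring
      simp only [this, Finset.sum_sub_distrib, Finset.sum_add_distrib, ← Finset.mul_sum, hgram, if_true]
      ring
    simp only [h2, Finset.sum_sub_distrib, Finset.sum_const, Finset.card_univ, ht, ← Finset.mul_sum,
      Finset.sum_ite_eq, Finset.mem_univ, if_true, nsmul_eq_mul]
    ring
  have htpos : (0 : ℤ) < (t : ℤ) - 1 := by
    have : (2 : ℤ) ≤ t := by exact_mod_cast ht2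
    omega
  have hRle : Fintype.card R ≤ t := by
    have h1 : (Fintype.card R : ℤ) * (2 * ((t : ℤ) - 1)) ≤ ∑ r, S r := by
      rw [← nsmul_eq_mul, ← Finset.card_univ, ← Finset.sum_const]
      exact Finset.sum_le_sum fun r _ => hSlow r
    rw [hStot] at h1
    have : (Fintype.card R : ℤ) ≤ t := by nlinarith
    exact_mod_cast this
  let L : (ι → ℚ) →ₗ[ℚ] (R → ℚ) :=
    { toFun := fun x r => ∑ i, x i * (v i r : ℚ)
      map_add' := fun x y => by funext r; simp [add_mul, Finset.sum_add_distrib]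
      map_smul' := fun c x => by funext r; simp [Finset.mul_sum, mul_assoc] }
  have hdual : ∀ (x : ι → ℚ) (j : ι), ∑ s, L x s * (v j s : ℚ) = x j + h * ∑ i, x i := by
    intro x j
    show ∑ s, (∑ i, x i * (v i s : ℚ)) * (v j s : ℚ) = _
    simp only [Finset.sum_mul, mul_assoc]
    rw [Finset.sum_comm]
    simp only [← Finset.mul_sum]
    have h2 : ∀ i, ∑ s, (v i s : ℚ) * (v j s : ℚ) = (if i = j then 1 else 0) + (h : ℚ) := fun i => by
      have := congrArg (fun z : ℤ => (z : ℚ)) (hgram i j)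
      push_cast at this
      rw [this]
    simp only [h2, mul_add, Finset.sum_add_distrib, mul_ite, mul_one, mul_zero, Finset.sum_ite_eq',
      Finset.mem_univ, if_true, ← Finset.sum_mul]
    ring
  have hth : (0 : ℚ) < 1 + t * h := by positivity
  have hinj : Function.Injective L := by
    rw [← LinearMap.ker_eq_bot, LinearMap.ker_eq_bot']
    intro x hx
    have h1 : ∀ j, x j + (h : ℚ) * ∑ i, x i = 0 := fun j => by rw [← hdual, hx]; simp
    have h2 := Finset.sum_congr rfl (s₁ := Finset.univ) fun j _ => h1 j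
    simp only [Finset.sum_add_distrib, Finset.sum_const, Finset.card_univ, ht, nsmul_eq_mul,
      Finset.sum_const_zero, mul_zero] at h2
    have h3 : ∑ i, x i = 0 := by
      have : (1 + (t : ℚ) * h) * ∑ i, x i = 0 := by linarith [mul_assoc (t : ℚ) h (∑ i, x i)]
      exact (mul_eq_zero.1 this).resolve_left hth.ne'
    funext j
    have := h1 j
    rw [h3, mul_zero, add_zero] at this
    exact this
  have hle := LinearMap.finrank_le_finrank_of_injective hinj
  rw [Module.finrank_fintype_fun_eq_card, Module.finrank_fintype_fun_eq_card, ht] at hle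
  have hRt : Fintype.card R = t := le_antisymm hRle hle
  have hSeq : S r = 2 * ((t : ℤ) - 1) := by
    refine le_antisymm ?_ (hSlow r)
    have h1 := Finset.sum_le_sum (s := Finset.univ.erase r) fun r _ => hSlow r
    have h2 := Finset.add_sum_erase Finset.univ S (Finset.mem_univ r)
    rw [Finset.sum_const, Finset.card_erase_of_mem (Finset.mem_univ r), Finset.card_univ, hRt,
      nsmul_eq_mul, Nat.cast_sub (by omega), Nat.cast_one] at h1
    rw [hStot] at h2
    linarith
  have hsurj : Function.Surjective L :=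
    (LinearMap.injective_iff_surjective_of_finrank_eq_finrank (by
      rw [Module.finrank_fintype_fun_eq_card, Module.finrank_fintype_fun_eq_card, ht, hRt])).1 hinj
  obtain ⟨x, hx⟩ := hsurj (Pi.single r 1)
  have hxj : ∀ j, (v j r : ℚ) = x j + h * ∑ i, x i := fun j => by
    rw [← hdual, hx, Finset.sum_eq_single r (fun s _ hs => by rw [Pi.single_eq_of_ne hs, zero_mul])
      (fun hh => absurd (Finset.mem_univ r) hh), Pi.single_eq_same, one_mul]
  have hsum : (k r : ℚ) = (1 + t * h) * ∑ i, x i := by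
    rw [hk]
    push_cast
    simp only [hxj, Finset.sum_add_distrib, Finset.sum_const, Finset.card_univ, ht, nsmul_eq_mul]
    ring
  have hone : ∑ i, (v i r : ℚ) ^ 2 - (h : ℚ) * (∑ i, x i) * k r = 1 := by
    have h1 : L x r = 1 := by rw [hx, Pi.single_eq_same]
    rw [← h1, hk]
    push_cast
    show _ = ∑ i, x i * (v i r : ℚ)
    rw [Finset.mul_sum, ← Finset.sum_sub_distrib]
    refine Finset.sum_congr rfl fun i _ => ?_
    have := hxj i
    linear_combination (v i r : ℚ) * this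
  have hq : ((k r : ℚ)) ^ 2 = t * h + 1 := by
    have h1 := hSexp r
    rw [hSeq] at h1
    have h1' : (2 : ℚ) * ((t : ℚ) - 1) = 2 * t * ∑ i, (v i r : ℚ) ^ 2 - 2 * (k r : ℚ) ^ 2 := by
      have := congrArg (fun z : ℤ => (z : ℚ)) h1
      push_cast at this
      linarith
    linear_combination (t : ℚ) * (1 + t * h) * hone + (t : ℚ) * h * (k r : ℚ) * hsum * (-1)
      + (1 + (t : ℚ) * h) / 2 * h1'
  have hz : k r ^ 2 = (t * h + 1 : ℤ) := by exact_mod_cast hq
  rw [hk] at hz
  exact hz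

/-- The arithmetic consequence for the degree. -/
theorem degree_shape {k t h q : ℕ} (ht : 3 ≤ t) (hh : 1 ≤ h) (hk : k * k = t * h + 1)
    (hq : q = t * (2 * h + 1) + 1) (hdvd : k ∣ q * (q + 1)) :
    2 ≤ k ∧ q = k * (2 * k + 1) ∧ h + 1 = k := by
  have hk2 : 2 ≤ k := by
    by_contra hlt
    have h1 : k ≤ 1 := by omega
    have h2 : k * k ≤ 1 := Nat.mul_le_mul h1 h1
    have : 3 ≤ t * h := by
      calc 3 = 3 * 1 := rfl
        _ ≤ t * h := Nat.mul_le_mul ht hh
    omega
  have hco : Nat.Coprime k t := by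
    refine Nat.coprime_of_dvd' fun p _ hpk hpt => ?_
    have h1 : p ∣ t * h + 1 := hk ▸ hpk.mul_right k
    exact (Nat.dvd_add_right (hpt.mul_right h)).1 h1
  obtain ⟨s, rfl⟩ : ∃ s, t = s + 1 := ⟨t - 1, by omega⟩
  have hq1 : q = 2 * (k * k) + s := by rw [hq, hk]; ring
  have hq2 : k ∣ s * (s + 1) := by
    have e : q * (q + 1) = s * (s + 1) + k * (2 * k * (2 * (k * k) + 2 * s + 1)) := by rw [hq1]; ring
    rw [e] at hdvd
    exact (Nat.dvd_add_left (Dvd.intro _ rfl)).1 hdvd
  obtain ⟨m, hm⟩ := hco.dvd_of_dvd_mul_right hq2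
  subst hm
  have hkh : k ∣ h + 1 := by
    have e : k * k = k * (m * h) + (h + 1) := by rw [hk]; ring
    exact (Nat.dvd_add_right (Dvd.intro _ rfl)).1 (e ▸ Dvd.intro k rfl)
  have hge : k ≤ h + 1 := Nat.le_of_dvd (Nat.succ_pos h) hkh
  have hm0 : m ≠ 0 := by rintro rfl; rw [mul_zero] at ht; omega
  have hm1 : m = 1 := by
    by_contra hne
    have h2m : 2 ≤ m := by omega
    have h4 : k * 2 ≤ k * m := Nat.mul_le_mul_left k h2m
    nlinarith
  subst hm1
  have hhk : h + 1 = k := by nlinarith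
  refine ⟨hk2, ?_, hhk⟩
  rw [hq]
  subst hhk
  ring

end CfsgLib.Perm.AbKernel
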