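import Cfsg.Agent.Lib.Perm.AbelianKernel.Setup
import Cfsg.Agent.Lib.Perm.AbelianKernel.Numeric
import Cfsg.Agent.Lib.Char.CyclicTIBasic

/-!
# Inverted two-point stabilisers of odd order are large

If the two-point stabiliser `E` has odd order `d > 1`, is inverted by the interchanging element, and the
regular normal subgroup `F` of the point stabiliser is abelian, then `|F| ≤ 2 d + 1`.

The characters of `G` outside the constituents of `indFun` of linear characters of `B` meet the `t = (q-1)/d`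
non-linear characters of `B` in an integral matrix with Gram matrix `I + h J`, `d = 2 h + 1`; hence their
degrees are `d k` with `k ^ 2 = t h + 1`, which does not divide `|G|`.
-/

set_option autoImplicit false
set_option linter.unusedSectionVars false
set_option linter.style.haveILetI false

namespace CfsgLib.Perm.AbKernel

open MulAction Cfsg CfsgLib.Char
open scoped ComplexConjugate

universe u

/-- A non-negative integral vector of norm one is a coordinate vector. -/
theorem exists_single_of_sum_sq_eq_one {ι : Type*} [Fintype ι] (x : ι → ℕ) (h : ∑ i, x i * x i = 1) :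
    ∃ i₀, x i₀ = 1 ∧ ∀ i, i ≠ i₀ → x i = 0 := by
  classical
  obtain ⟨i₀, -, h0⟩ := Finset.exists_ne_zero_of_sum_ne_zero (by omega : ∑ i, x i * x i ≠ 0)
  have hsplit := Finset.add_sum_erase Finset.univ (fun i => x i * x i) (Finset.mem_univ i₀)
  simp only [h] at hsplit
  have hx : x i₀ * x i₀ = 1 := by omega
  refine ⟨i₀, Nat.eq_one_of_mul_eq_one_right hx, fun i hi => ?_⟩
  have hz : ∑ i ∈ Finset.univ.erase i₀, x i * x i = 0 := by omega
  exact mul_self_eq_zero.1 (Finset.sum_eq_zero_iff.1 hz i (Finset.mem_erase.2 ⟨hi, Finset.mem_univ _⟩))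

/-- In an abelian group of order `k m` with `k`, `m` coprime the solutions of `x ^ k = 1` number `k`. -/
theorem card_pow_eq_one_of_coprime {A : Type*} [CommGroup A] [Finite A] {k m : ℕ} (hco : k.Coprime m)
    (hA : Nat.card A = k * m) : Nat.card {x : A // x ^ k = 1} = k := by
  have hprime : ∀ (S : Subgroup A) (n : ℕ), (∀ x ∈ S, x ^ n = 1) → ∀ p : ℕ, p.Prime → p ∣ Nat.card S → p ∣ n := by
    intro S n hS p hp hpS
    haveI := Fact.mk hp
    obtain ⟨x, hx⟩ := exists_prime_orderOf_dvd_card' p hpS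
    rw [← hx]
    exact orderOf_dvd_of_pow_eq_one (Subtype.ext (hS x x.2))
  let f : A →* A := powMonoidHom k
  have hk : ∀ x ∈ f.ker, x ^ k = 1 := fun x hx => hx
  have hm : ∀ x ∈ f.range, x ^ m = 1 := by
    rintro _ ⟨y, rfl⟩
    show (y ^ k) ^ m = 1
    rw [← pow_mul, ← hA, pow_card_eq_one']
  have hmul : Nat.card f.ker * Nat.card f.range = k * m := by
    rw [← hA, ← f.ker.card_mul_index, ← Subgroup.index_ker]
  have h1 : Nat.card f.ker ∣ k := by
    refine (Nat.Coprime.dvd_mul_right (Nat.coprime_of_dvd' fun p hp h1 h2 => ?_)).1 (Dvd.intro _ hmul)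
    exact dvd_of_dvd_of_eq (Nat.dvd_gcd (hprime _ k hk p hp h1) h2) hco
  have h2 : Nat.card f.range ∣ m := by
    refine (Nat.Coprime.dvd_mul_left (Nat.coprime_of_dvd' fun p hp h1 h2 => ?_)).1 (Dvd.intro_left _ hmul)
    exact dvd_of_dvd_of_eq (Nat.dvd_gcd h2 (hprime _ m hm p hp h1)) hco
  have hpos : 0 < k * m := hA ▸ Nat.card_pos
  have hk0 : 0 < k := Nat.pos_of_mul_pos_right hpos
  have hm0 : 0 < m := Nat.pos_of_mul_pos_left hpos
  have e : Nat.card {x : A // x ^ k = 1} = Nat.card f.ker := rfl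
  rw [e]
  refine Nat.dvd_antisymm h1 (Nat.dvd_of_mul_dvd_mul_right hm0 ?_)
  rw [← hmul]
  exact Nat.mul_dvd_mul_left _ h2
  where
  dvd_of_dvd_of_eq {a b c : ℕ} (h : a ∣ b) (h' : b = c) : a ∣ c := h' ▸ h

variable {G : Type u} [Group G] {Ω : Type*} [MulAction G Ω] {a b : Ω}

namespace Data

/-- The inverted two-point stabiliser is commutative. -/
theorem pair_comm (D : Data G a b) (hinv : ∀ e ∈ stabilizer G a ⊓ stabilizer G b, D.w⁻¹ * e * D.w = e⁻¹)
    (x y : ↥(stabilizer G a ⊓ stabilizer G b)) : x * y = y * x := by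
  have h := hinv _ (mul_mem x.2 y.2)
  rw [show D.w⁻¹ * ((x : G) * y) * D.w = (D.w⁻¹ * x * D.w) * (D.w⁻¹ * y * D.w) by group, hinv x x.2,
    hinv y y.2, ← mul_inv_rev, inv_inj] at h
  exact Subtype.ext h.symm

set_option maxHeartbeats 1000000 in
/-- An inverted two-point stabiliser of odd order `d > 1` has `q ≤ 2 d + 1`. -/
theorem large [Finite G] (D : Data G a b) (hodd : Odd (Nat.card ↥(stabilizer G a ⊓ stabilizer G b)))
    (hd1 : 1 < Nat.card ↥(stabilizer G a ⊓ stabilizer G b))
    (hinv : ∀ e ∈ stabilizer G a ⊓ stabilizer G b, D.w⁻¹ * e * D.w = e⁻¹) :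
    Nat.card D.F ≤ 2 * Nat.card ↥(stabilizer G a ⊓ stabilizer G b) + 1 := by
  classical
  by_contra hlt
  haveI : Fintype G := Fintype.ofFinite G
  haveI : Fintype (stabilizer G a) := Fintype.ofFinite _
  haveI : Fintype ↥(stabilizer G a ⊓ stabilizer G b) := Fintype.ofFinite _
  haveI : Fintype (IrrCharacter (stabilizer G a)) := Fintype.ofFinite _
  haveI : Fintype (IrrCharacter G) := Fintype.ofFinite _
  haveI : Fintype D.F := Fintype.ofFinite _
  letI : CommGroup ↥(stabilizer G a ⊓ stabilizer G b) :=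
    { (inferInstance : Group ↥(stabilizer G a ⊓ stabilizer G b)) with mul_comm := D.pair_comm hinv }
  obtain ⟨d, hd⟩ : ∃ d, d = Nat.card ↥(stabilizer G a ⊓ stabilizer G b) := ⟨_, rfl⟩
  obtain ⟨q, hq⟩ : ∃ q, q = Nat.card D.F := ⟨_, rfl⟩
  rw [← hd] at hodd hd1 hlt
  rw [← hq] at hlt
  haveI := D.fsub_normal
  have hd0 : (d : ℂ) ≠ 0 := by exact_mod_cast (by omega : d ≠ 0)
  -- the dual of the two-point stabiliser
  haveI : Finite (↥(stabilizer G a ⊓ stabilizer G b) →* ℂˣ) := CfsgLib.Char.finite_dual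
  haveI : Fintype (↥(stabilizer G a ⊓ stabilizer G b) →* ℂˣ) := Fintype.ofFinite _
  haveI : NeZero ((Monoid.exponent ↥(stabilizer G a ⊓ stabilizer G b) : ℕ) : ℂ) :=
    ⟨Nat.cast_ne_zero.2 Monoid.exponent_ne_zero_of_finite⟩
  have hdual : Fintype.card (↥(stabilizer G a ⊓ stabilizer G b) →* ℂˣ) = d := by
    rw [hd, ← Nat.card_eq_fintype_card]
    exact CommGroup.card_monoidHom_of_hasEnoughRootsOfUnity _ ℂ
  let L : (↥(stabilizer G a ⊓ stabilizer G b) →* ℂˣ) → IrrCharacter (stabilizer G a) := fun l =>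
    ⟨fun x => (l (D.proj x) : ℂ), isIrrCharacter_lin (l.comp D.proj)⟩
  have hLe : ∀ l (e : ↥(stabilizer G a ⊓ stabilizer G b)),
      (L l : stabilizer G a → ℂ) ⟨e, (Subgroup.mem_inf.1 e.2).1⟩ = (l e : ℂ) :=
    fun l e => congrArg (fun z => (l z : ℂ)) (D.proj_of_fix e)
  have hLinj : Function.Injective L := fun l l' h => MonoidHom.ext fun e => Units.ext (by
    rw [← hLe l e, ← hLe l' e, h])
  have hL1 : ∀ l, (L l : stabilizer G a → ℂ) 1 = 1 := fun l => by
    show ((l (D.proj 1) : ℂˣ) : ℂ) = 1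
    rw [map_one, map_one]; rfl
  -- characters constant on the regular normal subgroup
  let C : IrrCharacter (stabilizer G a) → Prop := fun φ =>
    ∀ u ∈ D.Fsub, (φ : stabilizer G a → ℂ) u = (φ : stabilizer G a → ℂ) 1
  have hLC : ∀ l, C (L l) := fun l u hu => by
    show ((l (D.proj u) : ℂˣ) : ℂ) = (L l : stabilizer G a → ℂ) 1
    rw [hL1, (D.mem_fsub_iff u).1 hu, map_one]; rfl
  have hcop : (Nat.card D.Fsub).Coprime D.Fsub.index := by
    rw [D.index_fsub, Nat.card_congr (Subgroup.subgroupOfEquivOfLe D.le).toEquiv]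
    exact D.coprime
  have hcen : ∀ k ∈ D.Fsub, k ≠ 1 → Subgroup.centralizer ({k} : Set (stabilizer G a)) ≤ D.Fsub :=
    fun k hk hk1 => D.centralizer_le hk hk1
  have hexnc : ∀ φ : IrrCharacter (stabilizer G a), ¬ C φ → ∃ k ∈ D.Fsub, (φ : stabilizer G a → ℂ) k ≠ (φ : stabilizer G a → ℂ) 1 := by
    intro φ hφ; simpa [C] using hφ
  have hdeg : ∀ φ : IrrCharacter (stabilizer G a), ¬ C φ → (φ : stabilizer G a → ℂ) 1 = d := by
    intro φ hφ
    rw [degree_eq_index_of_nonconst D.Fsub hcen hcop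
      (fun x hx y hy => Subtype.ext (D.comm _ hx _ hy)) φ.2 (hexnc φ hφ), D.index_fsub, hd]
  have hvan : ∀ φ : IrrCharacter (stabilizer G a), ¬ C φ → ∀ x, x ∉ D.Fsub → (φ : stabilizer G a → ℂ) x = 0 := fun φ hφ x hx =>
    vanish_of_nonconst D.Fsub hcen φ.2 (hexnc φ hφ) hx
  have hcardB : (Nat.card (stabilizer G a) : ℂ) = (q : ℂ) * d := by
    rw [D.card_stab, ← hq, ← hd]; push_cast; rfl
  have hq0 : (q : ℂ) ≠ 0 := by exact_mod_cast (by omega : q ≠ 0)
  -- the degrees of the characters constant on `F`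
  let g : stabilizer G a → ℂ := fun x => if x ∈ D.Fsub then (d : ℂ) else 0
  have hgcl : IsClassFunction (stabilizer G a) g := fun x y => by
    refine if_congr ⟨fun h => ?_, fun h => D.fsub_normal.conj_mem x h y⟩ rfl rfl
    have := D.fsub_normal.conj_mem _ h y⁻¹
    simpa [mul_assoc] using this
  have hgC : ∀ φ : IrrCharacter (stabilizer G a), classInner g (φ : stabilizer G a → ℂ) =
      if C φ then (φ : stabilizer G a → ℂ) 1 else 0 := by
    intro φ
    split_ifs with hφ
    · have hs : ∀ x, g x * conj ((φ : stabilizer G a → ℂ) x) =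
          if x ∈ D.Fsub then (d : ℂ) * (φ : stabilizer G a → ℂ) 1 else 0 := fun x => by
        show (if x ∈ D.Fsub then (d : ℂ) else 0) * _ = _
        split_ifs with hx
        · rw [hφ x hx, conj_irr_one]
        · rw [zero_mul]
      rw [classInner, Fintype.sum_congr _ _ hs, ← Finset.sum_filter, Finset.sum_const, nsmul_eq_mul,
        ← Fintype.card_subtype, ← Nat.card_eq_fintype_card,
        Nat.card_congr (Subgroup.subgroupOfEquivOfLe D.le).toEquiv, ← hq, hcardB]
      field_simp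
    · have hne : φ ≠ L 1 := fun e => hφ (e ▸ hLC 1)
      have h0 := classInner_irr_ne (χ := L 1) (ψ := φ) (Ne.symm hne)
      have hs : ∀ x, g x * conj ((φ : stabilizer G a → ℂ) x) =
          (d : ℂ) * ((L 1 : stabilizer G a → ℂ) x * conj ((φ : stabilizer G a → ℂ) x)) := fun x => by
        show (if x ∈ D.Fsub then (d : ℂ) else 0) * _ = _
        rw [show (L 1 : stabilizer G a → ℂ) x = 1 from rfl, one_mul]
        split_ifs with hx
        · rfl
        · rw [hvan φ hφ x hx, map_zero, mul_zero, mul_zero]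
      rw [classInner, Fintype.sum_congr _ _ hs, ← Finset.mul_sum, mul_left_comm]
      rw [classInner] at h0
      rw [h0, mul_zero]
  have hsumC : ∑ φ ∈ Finset.univ.filter C, (φ : stabilizer G a → ℂ) 1 ^ 2 = (d : ℂ) := by
    have h := congrFun (classFun_expand hgcl) 1
    rw [show g 1 = (d : ℂ) from if_pos (one_mem _), Finset.sum_apply] at h
    simp only [Pi.smul_apply, smul_eq_mul, hgC, ite_mul, zero_mul] at h
    rw [h, Finset.sum_filter]
    exact Finset.sum_congr rfl fun φ _ => by split_ifs <;> ring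
  -- these are the linear characters of the quotient
  have hCL : ∀ φ : IrrCharacter (stabilizer G a), C φ → ∃ l, L l = φ := by
    intro φ hφ
    by_contra hno
    push Not at hno
    have hsub : Finset.univ.image L ∪ {φ} ⊆ Finset.univ.filter C := by
      intro ψ hψ
      rw [Finset.mem_union, Finset.mem_image, Finset.mem_singleton] at hψ
      rw [Finset.mem_filter]
      rcases hψ with ⟨l, -, rfl⟩ | rfl
      · exact ⟨Finset.mem_univ _, hLC l⟩
      · exact ⟨Finset.mem_univ _, hφ⟩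
    choose dg hdg0 hdg using fun ψ : IrrCharacter (stabilizer G a) => isIrrCharacter_degree ψ.2
    simp only [hdg] at hsumC
    have hN : ∑ ψ ∈ Finset.univ.filter C, dg ψ ^ 2 = d := by exact_mod_cast hsumC
    have h1 := Finset.sum_le_sum_of_subset (f := fun ψ => dg ψ ^ 2) hsub
    have h2 : (Finset.univ.image L ∪ {φ}).card ≤ ∑ ψ ∈ Finset.univ.image L ∪ {φ}, dg ψ ^ 2 := by
      rw [Finset.card_eq_sum_ones]
      exact Finset.sum_le_sum fun ψ _ => Nat.one_le_pow _ _ (hdg0 ψ)
    have h3 : φ ∉ Finset.univ.image L := fun hh => by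
      obtain ⟨l, -, hl⟩ := Finset.mem_image.1 hh
      exact hno l hl
    rw [Finset.card_union_of_disjoint (Finset.disjoint_singleton_right.2 h3),
      Finset.card_image_of_injective _ hLinj, Finset.card_univ, hdual, Finset.card_singleton] at h2
    omega
  let Θ := {φ : IrrCharacter (stabilizer G a) // ¬ C φ}
  obtain ⟨t, ht⟩ : ∃ t, t = Fintype.card Θ := ⟨_, rfl⟩
  have hqt : q = t * d + 1 := by
    have h := sum_degree_sq (G := stabilizer G a)
    rw [← Finset.sum_filter_add_sum_filter_not Finset.univ C, hsumC,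
      Finset.sum_congr rfl (g := fun _ => (d : ℂ) ^ 2) (fun φ hφ => by rw [hdeg φ (Finset.mem_filter.1 hφ).2]),
      Finset.sum_const, nsmul_eq_mul, ← Fintype.card_subtype, ← ht, hcardB] at h
    have h' : d + t * d ^ 2 = q * d := by exact_mod_cast h
    refine Nat.eq_of_mul_eq_mul_right (by omega : 0 < d) ?_
    rw [← h']; ring
  have ht3 : 3 ≤ t := by
    by_contra hh
    have := Nat.mul_le_mul_right d (by omega : t ≤ 2)
    omega
  -- multiplicities
  have hmult : ∀ (φ : IrrCharacter (stabilizer G a)) (χ : IrrCharacter G), ∃ m : ℕ,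
      classInner (fun x : stabilizer G a => (χ : G → ℂ) x) (φ : stabilizer G a → ℂ) = m := fun φ χ =>
    classInner_char_irr_nat (isCharacter_comp (isCharacter_irr χ) (stabilizer G a).subtype) φ
  choose v hv using hmult
  have hvl : ∀ (φ : IrrCharacter (stabilizer G a)) (χ : IrrCharacter G), classInner (indFun (stabilizer G a) (φ : stabilizer G a → ℂ)) (χ : G → ℂ) = v φ χ := by
    intro φ χ
    rw [classInner_indFun _ _ _ (isClassFunction_irr χ), ← classInner_conj, hv, Complex.conj_natCast]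
  have hM : ∀ φ ψ : IrrCharacter (stabilizer G a), ((∑ χ, v φ χ * v ψ χ : ℕ) : ℂ) =
      (if φ = ψ then 1 else 0) + classInner (fun e : ↥(stabilizer G a ⊓ stabilizer G b) =>
        (φ : stabilizer G a → ℂ) ⟨e, (Subgroup.mem_inf.1 e.2).1⟩) (D.twist ψ) := by
    intro φ ψ
    rw [← classInner_irr φ ψ, ← D.classInner_indFun_indFun _ _ (isClassFunction_irr φ) (isClassFunction_irr ψ),
      classInner_expand (isClassFunction_indFun _ _), Nat.cast_sum]
    exact Finset.sum_congr rfl fun χ _ => by rw [hvl, hvl, Complex.conj_natCast, Nat.cast_mul]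
  have htw : ∀ (ψ : IrrCharacter (stabilizer G a)) (e : ↥(stabilizer G a ⊓ stabilizer G b)),
      D.twist ψ e = conj ((ψ : stabilizer G a → ℂ) ⟨e, (Subgroup.mem_inf.1 e.2).1⟩) := by
    intro ψ e
    show (ψ : stabilizer G a → ℂ) ⟨D.w⁻¹ * e * D.w, _⟩ = _
    rw [← irr_inv]
    exact congrArg _ (Subtype.ext (hinv e e.2))
  have hθM : ∀ (θ : Θ) (ψ : IrrCharacter (stabilizer G a)), ((∑ χ, v θ.1 χ * v ψ χ : ℕ) : ℂ) =
      (if θ.1 = ψ then 1 else 0) + (ψ : stabilizer G a → ℂ) 1 := by
    intro θ ψ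
    rw [hM, classInner, Fintype.sum_eq_single (1 : ↥(stabilizer G a ⊓ stabilizer G b)) fun e he => by
      rw [hvan θ.1 θ.2 _ fun hF => he ?_, zero_mul]
      exact Subtype.ext (D.eq_one_of_mem hF (mem_stabilizer_iff.1 (Subgroup.mem_inf.1 e.2).2))]
    rw [htw, Complex.conj_conj, ← hd]
    congr 1
    rw [show (⟨((1 : ↥(stabilizer G a ⊓ stabilizer G b)) : G), _⟩ : stabilizer G a) = 1 from rfl, hdeg θ.1 θ.2]
    field_simp
  have hLL : ∀ l m, ∑ χ, v (L l) χ * v (L m) χ = (if l = m then 1 else 0) + (if l = m⁻¹ then 1 else 0) := by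
    intro l m
    have h : ((∑ χ, v (L l) χ * v (L m) χ : ℕ) : ℂ) = (if l = m then 1 else 0) + (if l = m⁻¹ then 1 else 0) := by
      rw [hM, if_congr hLinj.eq_iff rfl rfl]
      congr 1
      refine Eq.trans (congrArg₂ classInner (funext fun e => hLe l e) (funext fun e => ?_)) (classInner_lc l m⁻¹)
      show D.twist (L m) e = ((m⁻¹ e : ℂˣ) : ℂ)
      rw [htw, hLe, MonoidHom.inv_apply, ← map_inv m e]
      exact (irr_inv ⟨_, isIrrCharacter_lc m⟩ e).symm
    exact_mod_cast h
  have hθL : ∀ (θ : Θ) l, ∑ χ, v θ.1 χ * v (L l) χ = 1 := by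
    intro θ l
    have h := hθM θ (L l)
    rw [if_neg (fun e => θ.2 (by rw [e]; exact hLC l)), hL1, zero_add] at h
    exact_mod_cast h
  have hθθ : ∀ θ θ' : Θ, ∑ χ, v θ.1 χ * v θ'.1 χ = (if θ = θ' then 1 else 0) + d := by
    intro θ θ'
    have h := hθM θ θ'.1
    rw [hdeg θ'.1 θ'.2, if_congr Subtype.ext_iff.symm rfl rfl] at h
    exact_mod_cast h
  -- the constituents of the characters induced from linear characters
  have hsq : ∀ l : ↥(stabilizer G a ⊓ stabilizer G b) →* ℂˣ, l = l⁻¹ → l = 1 := by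
    intro l hl
    refine MonoidHom.ext fun e => ?_
    obtain ⟨k, hk⟩ := exists_pow_eq_self_of_coprime (x := e) (n := 2)
      ((Nat.prime_two.coprime_iff_not_dvd).2 fun h => Nat.not_even_iff_odd.2 hodd
        (even_iff_two_dvd.2 (h.trans (hd ▸ orderOf_dvd_natCard e))))
    have h2 : l e * l e = 1 := by
      have := congrArg (· e) hl
      simp only [MonoidHom.inv_apply] at this
      nth_rewrite 1 [this]
      exact inv_mul_cancel _
    rw [← hk, ← pow_mul, map_pow, pow_mul, sq, h2, one_pow]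
    rfl
  let χ₀ : IrrCharacter G := ⟨fun _ => 1, isIrrCharacter_one⟩
  have hv0 : ∀ φ, v φ χ₀ = if L 1 = φ then 1 else 0 := by
    intro φ
    have h := hv φ χ₀
    rw [show (fun x : stabilizer G a => (χ₀ : G → ℂ) x) = (L 1 : stabilizer G a → ℂ) from rfl,
      classInner_irr] at h
    exact_mod_cast h.symm
  have hv0θ : ∀ θ : Θ, v θ.1 χ₀ = 0 := fun θ => by
    rw [hv0, if_neg fun e => θ.2 (by rw [← e]; exact hLC 1)]
  have hv0L : ∀ l, l ≠ 1 → v (L l) χ₀ = 0 := fun l hl => by
    rw [hv0, if_neg fun e => hl (hLinj e).symm]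
  have hv01 : v (L 1) χ₀ = 1 := by rw [hv0, if_pos rfl]
  have hf : ∀ l, l ≠ 1 → ∃ χ, v (L l) χ = 1 ∧ ∀ χ', χ' ≠ χ → v (L l) χ' = 0 := fun l hl =>
    exists_single_of_sum_sq_eq_one (fun χ => v (L l) χ) (by
      rw [hLL, if_pos rfl, if_neg fun e => hl (hsq l e)])
  haveI : Nonempty (IrrCharacter G) := ⟨χ₀⟩
  choose! f hf1 hf2 using hf
  have hone : (1 : ↥(stabilizer G a ⊓ stabilizer G b) →* ℂˣ)⁻¹ = 1 := MonoidHom.ext fun e => by simp
  have hii : ∀ l : ↥(stabilizer G a ⊓ stabilizer G b) →* ℂˣ, l⁻¹⁻¹ = l := fun l => MonoidHom.ext fun e => by simp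
  obtain ⟨S, hS0, hS1, hS2⟩ : ∃ S, S ≠ χ₀ ∧ v (L 1) S = 1 ∧ ∀ χ, χ ≠ χ₀ → χ ≠ S → v (L 1) χ = 0 := by
    obtain ⟨S, hS, hS'⟩ := exists_single_of_sum_sq_eq_one (fun χ => if χ = χ₀ then 0 else v (L 1) χ) (by
      have h := hLL 1 1
      rw [hone, if_pos rfl, ← Finset.add_sum_erase Finset.univ _ (Finset.mem_univ χ₀), hv01] at h
      rw [← Finset.add_sum_erase Finset.univ _ (Finset.mem_univ χ₀), if_pos rfl,
        Finset.sum_congr rfl (g := fun χ => v (L 1) χ * v (L 1) χ) fun χ hχ => by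
          rw [if_neg (Finset.mem_erase.1 hχ).1]]
      omega)
    have hS0 : S ≠ χ₀ := fun e => by simp [e] at hS
    refine ⟨S, hS0, by simpa [hS0] using hS, fun χ h0 hne => ?_⟩
    simpa [h0] using hS' χ hne
  have hSL : ∀ l, l ≠ 1 → v (L l) S = 0 := by
    intro l hl
    have h := hLL 1 l
    rw [if_neg (Ne.symm hl), if_neg (fun e => hl (by rw [← hii l, ← e, hone]))] at h
    have := Finset.sum_eq_zero_iff.1 h S (Finset.mem_univ _)
    rw [hS1, one_mul] at this
    exact this
  have hf_ne0 : ∀ l, l ≠ 1 → f l ≠ χ₀ := fun l hl e => by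
    have := hf1 l hl; rw [e, hv0L l hl] at this; exact zero_ne_one this
  have hf_neS : ∀ l, l ≠ 1 → f l ≠ S := fun l hl e => by
    have := hf1 l hl; rw [e, hSL l hl] at this; exact zero_ne_one this
  have hfv : ∀ l m, l ≠ 1 → v (L m) (f l) = (if l = m then 1 else 0) + (if l = m⁻¹ then 1 else 0) := by
    intro l m hl
    rw [← hLL, Fintype.sum_eq_single (f l) fun χ hχ => by rw [hf2 l hl χ hχ, zero_mul], hf1 l hl, one_mul]
  let K : Finset (IrrCharacter G) := insert χ₀ (insert S ((Finset.univ.erase 1).image f))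
  have hKmem : ∀ χ, χ ∉ K → ∀ l, v (L l) χ = 0 := by
    intro χ hχ l
    simp only [K, Finset.mem_insert, Finset.mem_image, Finset.mem_erase, Finset.mem_univ, and_true, not_or,
      not_exists, not_and] at hχ
    by_cases hl : l = 1
    · subst hl; exact hS2 χ hχ.1 hχ.2.1
    · exact hf2 l hl χ fun e => hχ.2.2 l hl e.symm
  have hθK : ∀ θ : Θ, ∀ χ ∈ K, χ ≠ χ₀ → v θ.1 χ = 1 := by
    intro θ χ hχ h0
    simp only [K, Finset.mem_insert, Finset.mem_image, Finset.mem_erase, Finset.mem_univ, and_true] at hχ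
    rcases hχ with e | rfl | ⟨l, hl, rfl⟩
    · exact absurd e h0
    · rw [← hθL θ 1, Fintype.sum_eq_add χ₀ χ (Ne.symm h0) fun χ' h => by rw [hS2 χ' h.1 h.2, mul_zero],
        hv0θ, zero_mul, zero_add, hS1, mul_one]
    · rw [← hθL θ l, Fintype.sum_eq_single (f l) fun χ' h => by rw [hf2 l hl χ' h, mul_zero], hf1 l hl, mul_one]
  -- `K` has `h + 2` members
  obtain ⟨h, hh⟩ := hodd
  have hKcard : K.card = h + 2 := by
    have htot : ∑ l, ∑ χ, v (L l) χ * v (L l) χ = d + 1 := by
      have h2 : ∀ l : ↥(stabilizer G a ⊓ stabilizer G b) →* ℂˣ, ∑ χ, v (L l) χ * v (L l) χ = 1 + if l = 1 then 1 else 0 := by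
        intro l
        rw [hLL, if_pos rfl]
        congr 1
        exact if_congr ⟨hsq l, fun e => by rw [e, hone]⟩ rfl rfl
      rw [Fintype.sum_congr _ _ h2, Finset.sum_add_distrib, Finset.sum_ite_eq', if_pos (Finset.mem_univ _),
        Finset.sum_const, Finset.card_univ, hdual, smul_eq_mul, mul_one]
    rw [Finset.sum_comm, ← Finset.sum_subset (Finset.subset_univ K) fun χ _ hχ =>
      Finset.sum_eq_zero fun l _ => by rw [hKmem χ hχ l, mul_zero]] at htot
    have hnS : S ∉ (Finset.univ.erase 1).image f := fun hm => by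
      obtain ⟨l, hl, e⟩ := Finset.mem_image.1 hm
      exact hf_neS l (Finset.mem_erase.1 hl).1 e
    have hn0 : χ₀ ∉ insert S ((Finset.univ.erase 1).image f) := fun hm => by
      rcases Finset.mem_insert.1 hm with e | hm
      · exact hS0 e.symm
      · obtain ⟨l, hl, e⟩ := Finset.mem_image.1 hm
        exact hf_ne0 l (Finset.mem_erase.1 hl).1 e
    rw [Finset.sum_insert hn0, Finset.sum_insert hnS,
      Fintype.sum_eq_single 1 fun l hl => by rw [hv0L l hl, mul_zero],
      Fintype.sum_eq_single 1 fun l hl => by rw [hSL l hl, mul_zero], hv01, hS1,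
      Finset.sum_congr rfl (g := fun _ => 2) (fun χ hχ => by
        obtain ⟨l, hl, rfl⟩ := Finset.mem_image.1 hχ
        have hl1 := (Finset.mem_erase.1 hl).1
        have hll : l ≠ l⁻¹ := fun e => hl1 (hsq l e)
        rw [Fintype.sum_eq_add l l⁻¹ hll fun m hm => by
            rw [hfv l m hl1, if_neg (Ne.symm hm.1), if_neg fun e => hm.2 (by rw [e, hii])]; rfl]
        simp only [hfv _ _ hl1, hii, if_neg hll, if_true]),
      Finset.sum_const, smul_eq_mul, one_mul] at htot
    rw [Finset.card_insert_of_notMem hn0, Finset.card_insert_of_notMem hnS]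
    omega
  -- the remaining characters
  let R := {χ : IrrCharacter G // χ ∉ K}
  let x : Θ → R → ℤ := fun θ r => (v θ.1 r.1 : ℤ)
  have hgram : ∀ i j : Θ, ∑ r : R, x i r * x j r = (if i = j then 1 else 0) + (h : ℤ) := by
    intro i j
    have h1 := hθθ i j
    rw [← Finset.sum_add_sum_compl K, ← Finset.add_sum_erase K _ (Finset.mem_insert_self _ _),
      hv0θ, zero_mul, zero_add, Finset.sum_congr rfl (g := fun _ => 1) (fun χ hχ => by
        rw [hθK i χ (Finset.mem_of_mem_erase hχ) (Finset.ne_of_mem_erase hχ),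
          hθK j χ (Finset.mem_of_mem_erase hχ) (Finset.ne_of_mem_erase hχ)]),
      Finset.sum_const, smul_eq_mul, mul_one, Finset.card_erase_of_mem (Finset.mem_insert_self _ _), hKcard] at h1
    have h2 : ∑ r : R, v i.1 r.1 * v j.1 r.1 = (if i = j then 1 else 0) + h := by
      rw [← Finset.sum_subtype Kᶜ (fun χ => Finset.mem_compl) (fun χ => v i.1 χ * v j.1 χ)]
      split_ifs at h1 ⊢ <;> omega
    have h3 := congrArg (fun n : ℕ => (n : ℤ)) h2
    push_cast at h3
    exact h3
  have hdvd : ∀ r : R, ∃ k : ℕ, (k : ℤ) = ∑ i, x i r ∧ k ∣ q * (q + 1) := by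
    intro r
    refine ⟨∑ i : Θ, v i.1 r.1, by push_cast; rfl, ?_⟩
    have hexp := congrFun (classFun_expand
      (isClassFunction_of_isCharacter (isCharacter_comp (isCharacter_irr r.1) (stabilizer G a).subtype))) 1
    rw [Finset.sum_apply] at hexp
    simp only [Pi.smul_apply, smul_eq_mul, Subgroup.coe_subtype, OneMemClass.coe_one] at hexp
    obtain ⟨n, -, hn⟩ := isIrrCharacter_degree r.1.2
    have hdk : n = d * ∑ i : Θ, v i.1 r.1 := by
      rw [hn, ← Finset.sum_filter_add_sum_filter_not Finset.univ C, Finset.sum_eq_zero (fun φ hφ => by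
        obtain ⟨l, rfl⟩ := hCL φ (Finset.mem_filter.1 hφ).2
        rw [hv, hKmem r.1 r.2 l, Nat.cast_zero, zero_mul]), zero_add,
        Finset.sum_congr rfl (g := fun φ => (d : ℂ) * (v φ r.1 : ℂ)) (fun φ hφ => by
          rw [hv, hdeg φ (Finset.mem_filter.1 hφ).2, mul_comm]),
        Finset.sum_subtype (Finset.univ.filter fun φ => ¬ C φ) (p := fun φ => ¬ C φ) (by simp)] at hexp
      rw [Finset.mul_sum]
      exact_mod_cast hexp
    have hnG : n ∣ Nat.card G := by
      rw [← Subgroup.index_bot]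
      exact degree_dvd_index_abelian G ⊥ (fun x hx y hy => by
        rw [Subgroup.mem_bot] at hx hy; rw [hx, hy]) _ r.1.2 n hn
    rw [hdk, D.card_group, ← hq, ← hd, show (q + 1) * (q * d) = d * (q * (q + 1)) by ring] at hnG
    exact (Nat.mul_dvd_mul_iff_left (by omega : 0 < d)).1 hnG
  have hnc : ∀ r : R, ∃ i j, x i r ≠ x j r := by
    intro r
    by_contra hc
    push Not at hc
    obtain ⟨k, hk, hkd⟩ := hdvd r
    obtain ⟨i₀⟩ : Nonempty Θ := Fintype.card_pos_iff.1 (by omega)
    have hkt : k = t * v i₀.1 r.1 := by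
      have : (k : ℤ) = (t : ℤ) * (v i₀.1 r.1 : ℤ) := by
        change (k : ℤ) = t * x i₀ r
        rw [hk, Finset.sum_congr rfl (fun i _ => hc i i₀), Finset.sum_const, Finset.card_univ, ← ht, nsmul_eq_mul]
      exact_mod_cast this
    have ht2 : t ∣ q * (q + 1) := (Dvd.intro _ hkt.symm).trans hkd
    rw [hqt, show (t * d + 1) * (t * d + 1 + 1) = t * (d * (t * d + 3)) + 2 by ring,
      Nat.dvd_add_right (Dvd.intro _ rfl)] at ht2
    have := Nat.le_of_dvd two_pos ht2
    omega
  obtain ⟨r⟩ : Nonempty R := by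
    by_contra hR
    rw [not_nonempty_iff] at hR
    obtain ⟨i⟩ : Nonempty Θ := Fintype.card_pos_iff.1 (by omega)
    have := hgram i i
    rw [Finset.univ_eq_empty, Finset.sum_empty, if_pos rfl] at this
    omega
  obtain ⟨k, hk, hkd⟩ := hdvd r
  have hcol := gram_column_sum x t h ht.symm (by omega) hgram hnc r
  rw [← hk] at hcol
  have hkk : k * k = t * h + 1 := by
    have := hcol
    rw [sq] at this
    exact_mod_cast this
  have hh1 : 1 ≤ h := by omega
  obtain ⟨hk2, hqk, hhk⟩ := degree_shape ht3 hh1 hkk (by rw [hqt, hh]) hkd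
  -- a subgroup of `F` of order `k` invariant under `E`
  letI : CommGroup D.F := { (inferInstance : Group D.F) with
    mul_comm := fun u u' => Subtype.ext (D.comm _ u.2 _ u'.2) }
  have hco : k.Coprime (2 * k + 1) := by
    rw [show 2 * k + 1 = 1 + 2 * k by ring, Nat.coprime_add_mul_right_right]
    exact Nat.coprime_one_right k
  have hZ := card_pow_eq_one_of_coprime (A := D.F) hco (by rw [← hq, hqk])
  let Z := {u : D.F // u ^ k = 1 ∧ u ≠ 1}
  have hZ1 : Nat.card Z + 1 = k := by
    conv_rhs => rw [← hZ]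
    rw [Nat.card_eq_fintype_card, Nat.card_eq_fintype_card, Fintype.card_subtype, Fintype.card_subtype]
    have e : Finset.univ.filter (fun u : D.F => u ^ k = 1 ∧ u ≠ 1) =
        (Finset.univ.filter (fun u : D.F => u ^ k = 1)).erase 1 := by ext u; simp [and_comm]
    rw [e, Finset.card_erase_add_one (by simp)]
  let cj : ↥(stabilizer G a ⊓ stabilizer G b) → D.F → D.F := fun e u =>
    ⟨(e : G) * u * (e : G)⁻¹, D.normal _ (Subgroup.mem_inf.1 e.2).1 _ u.2⟩
  letI : MulAction ↥(stabilizer G a ⊓ stabilizer G b) Z :=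
    { smul := fun e u => ⟨cj e u.1, Subtype.ext (by
          show ((cj e u.1 ^ k : D.F) : G) = 1
          rw [SubmonoidClass.coe_pow]
          show ((e : G) * (u.1 : G) * (e : G)⁻¹) ^ k = 1
          rw [conj_pow, show ((u.1 : G)) ^ k = 1 from congrArg Subtype.val u.2.1, mul_one, mul_inv_cancel]),
        fun hh => u.2.2 (Subtype.ext (conj_eq_one_iff.1 (congrArg Subtype.val hh)))⟩
      one_smul := fun u => Subtype.ext (Subtype.ext (by
        show (1 : G) * (u.1 : G) * (1 : G)⁻¹ = (u.1 : G)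
        simp))
      mul_smul := fun e e' u => Subtype.ext (Subtype.ext (by
        show ((e : G) * e') * (u.1 : G) * ((e : G) * e')⁻¹ = (e : G) * ((e' : G) * (u.1 : G) * (e' : G)⁻¹) * (e : G)⁻¹
        group)) }
  have hfree : ∀ u : Z, MulAction.stabilizer ↥(stabilizer G a ⊓ stabilizer G b) u = ⊥ := by
    intro u
    rw [eq_bot_iff]
    intro e he
    have he' : (e : G) * (u.1 : G) * (e : G)⁻¹ = u.1 := congrArg (fun z : Z => ((z.1 : D.F) : G)) he
    rw [Subgroup.mem_bot]
    by_contra he1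
    have hu1 : (⟨(u.1 : G), D.le u.1.2⟩ : stabilizer G a) ≠ 1 := fun hh =>
      u.2.2 (Subtype.ext (congrArg Subtype.val hh :))
    have hm : (⟨(e : G), (Subgroup.mem_inf.1 e.2).1⟩ : stabilizer G a) ∈ D.Fsub :=
      D.centralizer_le (show (⟨(u.1 : G), D.le u.1.2⟩ : stabilizer G a) ∈ D.Fsub from u.1.2) hu1
        (Subgroup.mem_centralizer_singleton_iff.2 (Subtype.ext (mul_inv_eq_iff_eq_mul.1 he')))
    exact he1 (Subtype.ext (D.eq_one_of_mem hm (mem_stabilizer_iff.1 (Subgroup.mem_inf.1 e.2).2)))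
  have hdk : d ∣ Nat.card Z := by
    rw [Nat.card_congr (selfEquivOrbitsQuotientProd hfree), Nat.card_prod, hd]
    exact dvd_mul_left _ _
  have := Nat.le_of_dvd (by omega) hdk
  omega

end Data

end CfsgLib.Perm.AbKernel
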