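import Cfsg.Agent.Lib.Char.AbelianTifn
import Cfsg.Agent.Lib.Char.Induction

/-!
# A point stabiliser with an abelian regular normal subgroup: two double cosets

If no non-identity element of `G` fixes three points, the point stabiliser `B` has an abelian normal
subgroup `F` regular on the other points and some element `w` interchanges two points `a`, `b`, then
`G = B ∪ F w B`, which gives the inner products of characters induced from `B`.
-/

set_option autoImplicit false
set_option linter.unusedSectionVars false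
set_option linter.style.haveILetI false

namespace CfsgLib.Perm.AbKernel

open MulAction Cfsg CfsgLib.Char
open scoped ComplexConjugate

universe u

variable {G : Type u} [Group G] {Ω : Type*} [MulAction G Ω]

/-- An abelian regular normal subgroup of a point stabiliser, and an element interchanging two points. -/
structure Data (G : Type u) [Group G] {Ω : Type*} [MulAction G Ω] (a b : Ω) where
  /-- the regular abelian normal subgroup -/
  F : Subgroup G
  /-- the interchanging element -/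
  w : G
  ne : a ≠ b
  le : F ≤ stabilizer G a
  normal : ∀ g ∈ stabilizer G a, ∀ u ∈ F, g * u * g⁻¹ ∈ F
  comm : ∀ u ∈ F, ∀ v ∈ F, u * v = v * u
  reg : ∀ y z : Ω, y ≠ a → z ≠ a → ∃! u : F, (u : G) • y = z
  fix : ∀ g : G, g • a = a → g • b = b → ∀ c, c ≠ a → c ≠ b → g • c = c → g = 1
  wa : w • a = b
  wb : w • b = a

namespace Data

variable {a b : Ω} (D : Data G a b)

theorem smul_ne (D : Data G a b) {g : G} (hg : g • a = a) {y : Ω} (hy : y ≠ a) : g • y ≠ a :=
  fun e => hy (smul_left_cancel g (e.trans hg.symm))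

theorem smul_b_ne (u : D.F) : (u : G) • b ≠ a := D.smul_ne (D.le u.2) D.ne.symm

theorem eq_of_smul_b {u v : D.F} (h : (u : G) • b = (v : G) • b) : u = v :=
  (D.reg b _ D.ne.symm (D.smul_b_ne v)).unique h rfl

theorem eq_one_of_mem {u : G} (hu : u ∈ D.F) (h : u • b = b) : u = 1 :=
  congrArg Subtype.val (D.eq_of_smul_b (u := ⟨u, hu⟩) (v := 1) (by simpa using h))

/-- The element of `F` moving `b` as a given element of the stabiliser of `a` does. -/
noncomputable def mv (x : stabilizer G a) : D.F :=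
  (D.reg b ((x : G) • b) D.ne.symm (D.smul_ne x.2 D.ne.symm)).exists.choose

theorem mv_smul (x : stabilizer G a) : (D.mv x : G) • b = (x : G) • b :=
  (D.reg b ((x : G) • b) D.ne.symm (D.smul_ne x.2 D.ne.symm)).exists.choose_spec

theorem mv_eq (x : stabilizer G a) (u : D.F) (h : (u : G) • b = (x : G) • b) : D.mv x = u :=
  D.eq_of_smul_b ((D.mv_smul x).trans h.symm)

/-- The projection of the point stabiliser onto the two-point stabiliser along `F`. -/
noncomputable def proj : stabilizer G a →* ↥(stabilizer G a ⊓ stabilizer G b) where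
  toFun x := ⟨(D.mv x : G)⁻¹ * x, (stabilizer G a).mul_mem ((stabilizer G a).inv_mem (D.le (D.mv x).2)) x.2, by
    show ((D.mv x : G)⁻¹ * x) • b = b
    rw [mul_smul, inv_smul_eq_iff, D.mv_smul]⟩
  map_one' := Subtype.ext (by
    show (D.mv 1 : G)⁻¹ * (1 : G) = 1
    rw [D.mv_eq 1 1 rfl]; simp)
  map_mul' x y := Subtype.ext (by
    obtain ⟨u, hu⟩ : ∃ u, u = D.mv x := ⟨_, rfl⟩
    obtain ⟨v, hv⟩ : ∃ v, v = D.mv y := ⟨_, rfl⟩
    have he : ((u : G)⁻¹ * x) • b = b := by rw [mul_smul, inv_smul_eq_iff, hu, D.mv_smul]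
    have hm : ((u : G)⁻¹ * x) * v * ((u : G)⁻¹ * x)⁻¹ ∈ D.F :=
      D.normal _ (mul_mem (inv_mem (D.le u.2)) x.2) _ v.2
    have h := D.mv_eq (x * y) (u * ⟨_, hm⟩) (by
      have hv' : (v : G) • b = (y : G) • b := hv ▸ D.mv_smul y
      show ((u : G) * (((u : G)⁻¹ * x) * v * ((u : G)⁻¹ * x)⁻¹)) • b = ((x : G) * y) • b
      simp only [mul_smul, inv_smul_eq_iff.2 he.symm, hv', smul_inv_smul])
    show (D.mv (x * y) : G)⁻¹ * ((x : G) * y) = ((D.mv x : G)⁻¹ * x) * ((D.mv y : G)⁻¹ * y)
    rw [h, ← hu, ← hv]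
    simp only [Subgroup.coe_mul]
    group)

theorem proj_of_fix (e : ↥(stabilizer G a ⊓ stabilizer G b)) : D.proj ⟨e, e.2.1⟩ = e := by
  refine Subtype.ext ?_
  show (D.mv ⟨e, e.2.1⟩ : G)⁻¹ * e = e
  rw [D.mv_eq ⟨e, e.2.1⟩ 1 (by simpa using (show (e : G) • b = b from e.2.2).symm)]
  simp

theorem proj_of_mem {u : G} (hu : u ∈ D.F) : D.proj ⟨u, D.le hu⟩ = 1 := by
  refine Subtype.ext ?_
  show (D.mv ⟨u, D.le hu⟩ : G)⁻¹ * u = 1
  rw [D.mv_eq ⟨u, D.le hu⟩ ⟨u, hu⟩ rfl]
  simp

/-- The regular normal subgroup inside the point stabiliser. -/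
abbrev Fsub : Subgroup (stabilizer G a) := D.F.subgroupOf (stabilizer G a)

theorem fsub_normal : D.Fsub.Normal := ⟨fun u hu g => D.normal g g.2 u hu⟩

theorem mem_fsub_iff (x : stabilizer G a) : x ∈ D.Fsub ↔ D.proj x = 1 := by
  constructor
  · exact fun h => D.proj_of_mem h
  · intro h
    have h' : (D.mv x : G)⁻¹ * x = 1 := congrArg Subtype.val h
    show (x : G) ∈ D.F
    rw [← inv_mul_eq_one.1 h']
    exact (D.mv x).2

theorem centralizer_le {k : stabilizer G a} (hk : k ∈ D.Fsub) (hk1 : k ≠ 1) :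
    Subgroup.centralizer ({k} : Set (stabilizer G a)) ≤ D.Fsub := by
  intro x hx
  rw [Subgroup.mem_centralizer_singleton_iff] at hx
  rw [D.mem_fsub_iff]
  refine Subtype.ext ?_
  have hc : ((x : G)) * k = (k : G) * x := congrArg Subtype.val hx
  have he : Commute ((D.mv x : G)⁻¹ * x) (k : G) :=
    (Commute.inv_left (D.comm _ (D.mv x).2 _ hk)).mul_left hc
  have hb : (k : G) • b ≠ b := fun e => hk1 (Subtype.ext (D.eq_one_of_mem hk e))
  have hfb : ((D.mv x : G)⁻¹ * x) • b = b := by rw [mul_smul, inv_smul_eq_iff, D.mv_smul]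
  refine D.fix _ (D.proj x).2.1 hfb _ (D.smul_ne k.2 D.ne.symm) hb ?_
  show ((D.mv x : G)⁻¹ * x) • ((k : G) • b) = (k : G) • b
  rw [smul_smul, he.eq, mul_smul, hfb]

section Count

variable [Finite G]

/-- The point stabiliser is the product of `F` and the two-point stabiliser. -/
noncomputable def stabEquiv : D.F × ↥(stabilizer G a ⊓ stabilizer G b) ≃ stabilizer G a where
  toFun p := ⟨(p.1 : G) * p.2, mul_mem (D.le p.1.2) p.2.2.1⟩
  invFun x := (D.mv x, D.proj x)
  left_inv p := by
    have h : D.mv ⟨(p.1 : G) * p.2, mul_mem (D.le p.1.2) p.2.2.1⟩ = p.1 :=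
      D.mv_eq _ _ (by simp only [mul_smul, show (p.2 : G) • b = b from p.2.2.2])
    refine Prod.ext h (Subtype.ext ?_)
    show (D.mv _ : G)⁻¹ * ((p.1 : G) * p.2) = p.2
    rw [h, inv_mul_cancel_left]
  right_inv x := Subtype.ext (by
    show (D.mv x : G) * ((D.mv x : G)⁻¹ * x) = x
    rw [mul_inv_cancel_left])

theorem card_stab :
    Nat.card (stabilizer G a) = Nat.card D.F * Nat.card ↥(stabilizer G a ⊓ stabilizer G b) := by
  rw [← Nat.card_congr D.stabEquiv, Nat.card_prod]

theorem index_fsub : D.Fsub.index = Nat.card ↥(stabilizer G a ⊓ stabilizer G b) := by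
  have h := D.Fsub.card_mul_index
  rw [D.card_stab, Nat.card_congr (Subgroup.subgroupOfEquivOfLe D.le).toEquiv] at h
  exact Nat.eq_of_mul_eq_mul_left Nat.card_pos h

theorem coprime : (Nat.card D.F).Coprime (Nat.card ↥(stabilizer G a ⊓ stabilizer G b)) := by
  classical
  haveI := Fintype.ofFinite (stabilizer G a)
  haveI := D.fsub_normal
  have h := index_coprime_of_centralizer_le D.Fsub fun k hk hk1 => D.centralizer_le hk hk1
  have e : Subgroup.normalizer (D.Fsub : Set (stabilizer G a)) = ⊤ := Subgroup.normalizer_eq_top _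
  rw [Nat.card_congr (Subgroup.subgroupOfEquivOfLe D.le).toEquiv] at h
  rw [← D.index_fsub]
  convert h using 2
  rw [e]
  exact (Subgroup.relIndex_top_right D.Fsub).symm

/-- The elements outside the point stabiliser. -/
noncomputable def outEquiv : D.F × stabilizer G a ≃ {y : G // y • a ≠ a} :=
  Equiv.ofBijective (fun p => ⟨(p.1 : G) * D.w * p.2, by
      rw [mul_smul, mul_smul, show (p.2 : G) • a = a from p.2.2, D.wa]; exact D.smul_b_ne p.1⟩)
    ⟨fun p q e => by
      have e' : (p.1 : G) * D.w * p.2 = (q.1 : G) * D.w * q.2 := congrArg Subtype.val e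
      have h1 := congrArg (fun g : G => g • a) e'
      simp only [mul_smul, show (p.2 : G) • a = a from p.2.2, show (q.2 : G) • a = a from q.2.2, D.wa] at h1
      obtain h1 := D.eq_of_smul_b h1
      rw [h1] at e'
      exact Prod.ext h1 (Subtype.ext (mul_left_cancel e')),
    fun ⟨y, hy⟩ => by
      obtain ⟨u, hu, -⟩ := D.reg b (y • a) D.ne.symm hy
      refine ⟨(u, ⟨((u : G) * D.w)⁻¹ * y, ?_⟩), Subtype.ext ?_⟩
      · show (((u : G) * D.w)⁻¹ * y) • a = a
        rw [mul_smul, inv_smul_eq_iff, mul_smul, D.wa, hu]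
      · show (u : G) * D.w * (((u : G) * D.w)⁻¹ * y) = y
        rw [mul_inv_cancel_left]⟩

theorem card_group : Nat.card G =
    (Nat.card D.F + 1) * (Nat.card D.F * Nat.card ↥(stabilizer G a ⊓ stabilizer G b)) := by
  classical
  rw [← Nat.card_congr (Equiv.sumCompl fun y : G => y • a = a), Nat.card_sum,
    ← Nat.card_congr D.outEquiv, Nat.card_prod,
    show Nat.card {y : G // y • a = a} = Nat.card (stabilizer G a) from rfl, D.card_stab]
  ring

end Count

section Mackey

variable [Fintype G] [Fintype (stabilizer G a)] [Fintype ↥(stabilizer G a ⊓ stabilizer G b)]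

theorem conj_w_mem (e : ↥(stabilizer G a ⊓ stabilizer G b)) :
    D.w⁻¹ * e * D.w ∈ stabilizer G a := by
  rw [mem_stabilizer_iff, mul_smul, mul_smul, D.wa, show (e : G) • b = b from e.2.2, inv_smul_eq_iff, D.wa]

/-- The twist of a function on the point stabiliser by `w`. -/
noncomputable def twist (ψ : stabilizer G a → ℂ) : ↥(stabilizer G a ⊓ stabilizer G b) → ℂ :=
  fun e => ψ ⟨D.w⁻¹ * e * D.w, D.conj_w_mem e⟩

theorem indFun_apply (ψ : stabilizer G a → ℂ) (hψ : IsClassFunction (stabilizer G a) ψ) [Fintype D.F]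
    (x : stabilizer G a) : indFun (stabilizer G a) ψ (x : G) = ψ x +
      ∑ u : D.F, extendByZero (stabilizer G a ⊓ stabilizer G b) (D.twist ψ) ((u : G)⁻¹ * x * u) := by
  classical
  set f : G → ℂ := fun y => extendByZero (stabilizer G a) ψ (y⁻¹ * x * y) with hf
  have hin : ∀ y : (stabilizer G a), f y = ψ x := by
    intro y
    rw [hf]
    show extendByZero (stabilizer G a) ψ ((y : G)⁻¹ * x * y) = ψ x
    rw [extendByZero_mem (stabilizer G a) ψ (mul_mem (mul_mem (inv_mem y.2) x.2) y.2),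
      show (⟨(y : G)⁻¹ * x * y, _⟩ : (stabilizer G a)) = y⁻¹ * x * y⁻¹⁻¹ from Subtype.ext (by simp), hψ]
  have hout : ∀ (u : D.F) (y : (stabilizer G a)), f ((u : G) * D.w * y) =
      extendByZero ((stabilizer G a) ⊓ stabilizer G b) (D.twist ψ) ((u : G)⁻¹ * x * u) := by
    intro u y
    have hz : (u : G)⁻¹ * x * u ∈ (stabilizer G a) := mul_mem (mul_mem (inv_mem (D.le u.2)) x.2) (D.le u.2)
    have he : ((u : G) * D.w * y)⁻¹ * x * ((u : G) * D.w * y) =
        (y : G)⁻¹ * (D.w⁻¹ * ((u : G)⁻¹ * x * u) * D.w) * y := by group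
    rw [hf]
    show extendByZero (stabilizer G a) ψ _ = _
    rw [he]
    by_cases hb : ((u : G)⁻¹ * x * u) • b = b
    · have hmem : (u : G)⁻¹ * x * u ∈ (stabilizer G a) ⊓ stabilizer G b := ⟨hz, hb⟩
      have hm := D.conj_w_mem ⟨_, hmem⟩
      rw [extendByZero_mem _ _ hmem, extendByZero_mem (stabilizer G a) ψ (mul_mem (mul_mem (inv_mem y.2) hm) y.2),
        show (⟨(y : G)⁻¹ * _ * y, _⟩ : (stabilizer G a)) = y⁻¹ * ⟨_, hm⟩ * y⁻¹⁻¹ from Subtype.ext (by simp), hψ]
      rfl
    · rw [extendByZero_not_mem _ _ (fun h => hb (Subgroup.mem_inf.1 h).2), extendByZero_not_mem (stabilizer G a) ψ]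
      intro h
      have h' := mul_mem (mul_mem y.2 h) (inv_mem y.2)
      rw [show (y : G) * ((y : G)⁻¹ * (D.w⁻¹ * ((u : G)⁻¹ * x * u) * D.w) * y) * (y : G)⁻¹ =
        D.w⁻¹ * ((u : G)⁻¹ * x * u) * D.w by group, mem_stabilizer_iff, mul_smul, mul_smul, D.wa,
        inv_smul_eq_iff, D.wa] at h'
      exact hb h'
  have hB0 : (Nat.card (stabilizer G a) : ℂ) ≠ 0 := by exact_mod_cast Nat.card_pos.ne'
  have hsplit : ∑ y : G, f y = (Nat.card (stabilizer G a) : ℂ) * (ψ x +
      ∑ u : D.F, extendByZero ((stabilizer G a) ⊓ stabilizer G b) (D.twist ψ) ((u : G)⁻¹ * x * u)) := by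
    rw [← Finset.sum_filter_add_sum_filter_not Finset.univ (fun y : G => y • a = a) f,
      Finset.sum_subtype (Finset.univ.filter fun y : G => y • a = a) (p := fun y => y • a = a) (by simp),
      Finset.sum_subtype (Finset.univ.filter fun y : G => ¬ y • a = a) (p := fun y => y • a ≠ a) (by simp),
      ← (D.outEquiv).sum_comp, Fintype.sum_prod_type, mul_add, Finset.mul_sum]
    congr 1
    · refine (Fintype.sum_congr _ (fun _ : {y : G // y • a = a} => ψ x) fun y => hin ⟨y.1, y.2⟩).trans ?_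
      rw [Finset.sum_const, Finset.card_univ, nsmul_eq_mul, ← Nat.card_eq_fintype_card]
      rfl
    · refine Finset.sum_congr rfl fun u _ => ?_
      refine (Fintype.sum_congr _ (fun _ : stabilizer G a => extendByZero ((stabilizer G a) ⊓ stabilizer G b) (D.twist ψ) ((u : G)⁻¹ * x * u))
        (fun y => hout u y)).trans ?_
      rw [Finset.sum_const, Finset.card_univ, nsmul_eq_mul, ← Nat.card_eq_fintype_card]
  show (Nat.card (stabilizer G a) : ℂ)⁻¹ * ∑ y : G, f y = _
  rw [hsplit, inv_mul_cancel_left₀ hB0]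

/-- The inner product of two characters induced from the point stabiliser. -/
theorem classInner_indFun_indFun (φ ψ : stabilizer G a → ℂ) (hφ : IsClassFunction (stabilizer G a) φ)
    (hψ : IsClassFunction (stabilizer G a) ψ) :
    classInner (indFun (stabilizer G a) φ) (indFun (stabilizer G a) ψ) = classInner φ ψ +
      classInner (fun e : ↥(stabilizer G a ⊓ stabilizer G b) => φ ⟨e, (Subgroup.mem_inf.1 e.2).1⟩) (D.twist ψ) := by
  classical
  haveI : Fintype D.F := Fintype.ofFinite _
  rw [classInner_indFun _ _ _ (isClassFunction_indFun _ _)]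
  simp only [classInner, D.indFun_apply ψ hψ, map_add, map_sum, mul_add, Finset.sum_add_distrib]
  congr 1
  rw [Finset.sum_congr rfl (fun x _ => Finset.mul_sum _ _ _), Finset.sum_comm]
  have hu : ∀ u : D.F, ∑ x : stabilizer G a, φ x *
      conj (extendByZero (stabilizer G a ⊓ stabilizer G b) (D.twist ψ) ((u : G)⁻¹ * x * u)) =
      ∑ e : ↥(stabilizer G a ⊓ stabilizer G b), φ ⟨e, (Subgroup.mem_inf.1 e.2).1⟩ * conj (D.twist ψ e) := by
    intro u
    obtain ⟨u', hu'⟩ : ∃ u' : stabilizer G a, (u' : G) = u := ⟨⟨u, D.le u.2⟩, rfl⟩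
    have h := ((MulAut.conj u').toEquiv).sum_comp (fun x => φ x *
      conj (extendByZero (stabilizer G a ⊓ stabilizer G b) (D.twist ψ) ((u : G)⁻¹ * x * u)))
    rw [← h]
    have h2 : ∀ z : stabilizer G a, φ ((MulAut.conj u').toEquiv z) *
        conj (extendByZero (stabilizer G a ⊓ stabilizer G b) (D.twist ψ)
          ((u : G)⁻¹ * ((MulAut.conj u').toEquiv z : stabilizer G a) * u)) =
        if hz : (z : G) • b = b then φ z * conj (D.twist ψ ⟨z, z.2, hz⟩) else 0 := by
      intro z
      show φ (u' * z * u'⁻¹) * conj (extendByZero _ _ ((u : G)⁻¹ * ((u' : G) * z * (u' : G)⁻¹) * u)) = _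
      rw [hφ, hu', show (u : G)⁻¹ * ((u : G) * z * (u : G)⁻¹) * u = z by group]
      split_ifs with hz
      · rw [extendByZero_mem _ _ (show (z : G) ∈ stabilizer G a ⊓ stabilizer G b from ⟨z.2, hz⟩)]
      · rw [extendByZero_not_mem _ _ (fun h => hz (Subgroup.mem_inf.1 h).2), map_zero, mul_zero]
    rw [Fintype.sum_congr _ _ h2]
    refine (Finset.sum_bij_ne_zero (fun z _ hz => (⟨z, z.2, by
      by_contra hb; exact hz (dif_neg hb)⟩ : ↥(stabilizer G a ⊓ stabilizer G b))) (fun _ _ _ => Finset.mem_univ _)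
      (fun _ _ _ _ _ _ e => Subtype.ext (congrArg Subtype.val e :))
      (fun e _ he => ⟨⟨e, (Subgroup.mem_inf.1 e.2).1⟩, Finset.mem_univ _, by
        rw [dif_pos (mem_stabilizer_iff.1 (Subgroup.mem_inf.1 e.2).2)]; exact he, rfl⟩)
      (fun z _ hz => by
        have hb : (z : G) • b = b := by by_contra hb; exact hz (dif_neg hb)
        rw [dif_pos hb]))
  rw [Fintype.sum_congr _ _ hu, Finset.sum_const, Finset.card_univ, nsmul_eq_mul, ← Nat.card_eq_fintype_card,
    D.card_stab, Nat.cast_mul, mul_inv, ← mul_assoc]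
  congr 1
  have : (Nat.card D.F : ℂ) ≠ 0 := by exact_mod_cast Nat.card_pos.ne'
  field_simp

end Mackey

end Data

end CfsgLib.Perm.AbKernel
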